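import Cfsg.Agent.Lib.ZassAbelian.Field
import Cfsg.Agent.Lib.Classical.ProjLine
import Mathlib.Topology.Compactification.OnePoint.ProjectiveLine
import Mathlib.FieldTheory.Finite.Basic
import Mathlib.LinearAlgebra.Matrix.GeneralLinearGroup.Defs

/-!
# Zassenhaus groups with abelian kernel: the identification with `PSL(2, F)`
-/

set_option autoImplicit false
set_option linter.style.haveILetI false
set_option linter.unusedSectionVars false

namespace Cfsg.Agent.ZassAb

open Cfsg.Agent.Zass MulAction
open scoped Matrix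

universe u v

variable {G : Type u} [Group G] [Finite G] {Ω : Type v} [MulAction G Ω] [Fintype Ω]

namespace Ab

variable {a b : Ω} {H : Subgroup G} (A : Ab a b H)
include A

theorem equiv_psl {F : Type} [Field F] [Fintype F] (φ : F → H) (lam : two (G := G) a b →* F)
    (hφ : Function.Bijective φ) (hφadd : ∀ x y, φ (x + y) = φ x * φ y) (hlam : Function.Injective lam)
    (hact : ∀ (k : two (G := G) a b) (x : F), (k : G) * (φ x : G) * (k : G)⁻¹ = (φ (lam k * x) : G))
    (heq : Nat.card H - 1 = 2 * Nat.card (two (G := G) a b)) {s : G} (hs : Swap a b s)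
    (hinv : ∀ k ∈ two (G := G) a b, s * k * s = k⁻¹) :
    ringChar F ≠ 2 ∧ Nonempty (G ≃* Matrix.ProjectiveSpecialLinearGroup (Fin 2) F) := by
  classical
  have he : 0 < Nat.card (two (G := G) a b) := Nat.card_pos
  have hq : Fintype.card F = 2 * Nat.card (two (G := G) a b) + 1 := by
    rw [← Nat.card_eq_fintype_card, Nat.card_congr (Equiv.ofBijective φ hφ)]
    have := Nat.card_pos (α := H)
    omega
  set e := Nat.card (two (G := G) a b) with he'
  have hchar : ringChar F ≠ 2 := fun h => by
    have := FiniteField.even_card_iff_char_two.mp h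
    omega
  have hhalf : Fintype.card F / 2 = e := by omega
  refine ⟨hchar, ?_⟩
  have hφ0 : φ 0 = 1 := by
    have h := hφadd 0 0
    rw [add_zero] at h
    exact left_eq_mul.mp h
  -- coordinates
  let Φ₀ : OnePoint F → Ω := fun x => OnePoint.rec a (fun y => (φ y : G) • b) x
  have hΦbij : Function.Bijective Φ₀ := by
    refine ⟨fun x y hxy => ?_, fun c => ?_⟩
    · cases x with
      | infty =>
        cases y with
        | infty => rfl
        | coe y => exact absurd hxy.symm (A.smul_b_ne (φ y).2)
      | coe x =>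
        cases y with
        | infty => exact absurd hxy (A.smul_b_ne (φ x).2)
        | coe y =>
          obtain ⟨w, -, hw⟩ := A.reg b _ A.ne.symm (A.smul_b_ne (φ y).2)
          exact congrArg _ (hφ.1 ((hw _ hxy).trans (hw _ rfl).symm))
    · by_cases hc : c = a
      · exact ⟨OnePoint.infty, hc.symm⟩
      · obtain ⟨w, hw, -⟩ := A.reg b c A.ne.symm hc
        obtain ⟨y, rfl⟩ := hφ.2 w
        exact ⟨(y : OnePoint F), hw⟩
  let Φ : OnePoint F ≃ Ω := Equiv.ofBijective Φ₀ hΦbij
  have hΦi : Φ OnePoint.infty = a := rfl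
  have hΦ0 : Φ (0 : F) = b := by show ((φ 0 : H) : G) • b = b; rw [hφ0]; exact one_smul G b
  have hu : ∀ α x : F, (φ α : G) • Φ (x : OnePoint F) = Φ ((x + α : F) : OnePoint F) := fun α x => by
    show (φ α : G) • ((φ x : G) • b) = (φ (x + α) : G) • b
    rw [← mul_smul, add_comm x α, hφadd, Subgroup.coe_mul]
  have hua : ∀ α : F, (φ α : G) • Φ OnePoint.infty = Φ OnePoint.infty := fun α => A.le (φ α).2
  have hk : ∀ (k : (two (G := G) a b)) (x : F), (k : G) • Φ (x : OnePoint F) = Φ ((lam k * x : F) : OnePoint F) := fun k x => by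
    show (k : G) • ((φ x : G) • b) = (φ (lam k * x) : G) • b
    rw [← hact k x, mul_smul, mul_smul, inv_smul_eq_iff.mpr (mem_two.mp k.2).2.symm]
  -- the image of `lam`
  have hlam0 : ∀ k, lam k ≠ 0 := fun k h => by
    have h1 : lam k * lam k⁻¹ = 1 := by rw [← map_mul, mul_inv_cancel, map_one]
    rw [h, zero_mul] at h1
    exact zero_ne_one h1
  have hlampow : ∀ k, lam k ^ e = 1 := fun k => by rw [← map_pow, pow_card_eq_one', map_one]
  have hsq_iff : ∀ x : F, x ≠ 0 → (IsSquare x ↔ x ^ e = 1) := fun x hx => hhalf ▸ FiniteField.isSquare_iff hchar hx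
  have hsurj : ∀ x : F, x ≠ 0 → IsSquare x → ∃ k, lam k = x := by
    intro x hx hxs
    haveI := Fintype.ofFinite (two (G := G) a b)
    have hsub : Finset.univ.image lam ⊆ (Polynomial.nthRoots e (1 : F)).toFinset := by
      intro y hy
      obtain ⟨k, -, rfl⟩ := Finset.mem_image.mp hy
      rw [Multiset.mem_toFinset, Polynomial.mem_nthRoots he]
      exact hlampow k
    have hle : (Polynomial.nthRoots e (1 : F)).toFinset.card ≤ (Finset.univ.image lam).card := by
      rw [Finset.card_image_of_injective _ hlam, Finset.card_univ, ← Nat.card_eq_fintype_card, ← he']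
      exact (Multiset.toFinset_card_le _).trans (Polynomial.card_nthRoots e 1)
    have hx' : x ∈ (Polynomial.nthRoots e (1 : F)).toFinset := by
      rw [Multiset.mem_toFinset, Polynomial.mem_nthRoots he]
      exact (hsq_iff x hx).mp hxs
    rw [← Finset.eq_of_subset_of_card_le hsub hle] at hx'
    obtain ⟨k, -, hk'⟩ := Finset.mem_image.mp hx'
    exact ⟨k, hk'⟩
  have hlamsq : ∀ k, IsSquare (lam k) := fun k => (hsq_iff _ (hlam0 k)).mpr (hlampow k)
  -- the swap
  have hsa : s • Φ OnePoint.infty = Φ (0 : F) := by rw [hΦi, hΦ0]; exact hs.sa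
  have hsb : s • Φ (0 : F) = Φ OnePoint.infty := by rw [hΦi, hΦ0]; exact hs.sb
  have hSex : ∀ x : F, ∃ y : F, x ≠ 0 → (y ≠ 0 ∧ s • Φ (x : OnePoint F) = Φ (y : OnePoint F)) := by
    intro x
    by_cases hx : x = 0
    · exact ⟨0, fun h => absurd hx h⟩
    cases hy : Φ.symm (s • Φ (x : OnePoint F)) with
    | infty =>
      exfalso
      have h1 : s • Φ (x : OnePoint F) = Φ OnePoint.infty := by rw [← hy, Equiv.apply_symm_apply]
      rw [← hsb] at h1
      exact hx (OnePoint.coe_injective (Φ.injective ((smul_left_cancel_iff s).mp h1)))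
    | coe y =>
      have h1 : s • Φ (x : OnePoint F) = Φ (y : OnePoint F) := by rw [← hy, Equiv.apply_symm_apply]
      refine ⟨y, fun _ => ⟨fun h0 => ?_, h1⟩⟩
      rw [h0, ← hsa] at h1
      exact OnePoint.coe_ne_infty x (Φ.injective ((smul_left_cancel_iff s).mp h1))
  choose S hS using hSex
  have hS0 : ∀ x : F, x ≠ 0 → S x ≠ 0 := fun x hx => (hS x hx).1
  have hss : ∀ x : F, x ≠ 0 → s • Φ (x : OnePoint F) = Φ (S x : OnePoint F) := fun x hx => (hS x hx).2
  have hSk : ∀ x l : F, x ≠ 0 → l ≠ 0 → IsSquare l → S (l * x) = l⁻¹ * S x := by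
    intro x l hx hl hls
    obtain ⟨k, rfl⟩ := hsurj l hl hls
    have h1 : s * (k : G) = ((k⁻¹ : (two (G := G) a b)) : G) * s := by
      rw [Subgroup.coe_inv, ← hinv k k.2, mul_assoc, hs.sq, mul_one]
    have h2 : s • ((k : G) • Φ (x : OnePoint F)) = ((k⁻¹ : (two (G := G) a b)) : G) • (s • Φ (x : OnePoint F)) := by
      rw [← mul_smul, h1, mul_smul]
    rw [hk, hss x hx, hss _ (mul_ne_zero hl hx), hk, map_inv] at h2
    exact OnePoint.coe_injective (Φ.injective h2)
  have hSS : ∀ x, x ≠ 0 → S (S x) = x := fun x hx => by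
    have h1 : s • (s • Φ (x : OnePoint F)) = Φ (x : OnePoint F) := by rw [← mul_smul, hs.sq, one_smul]
    rw [hss x hx, hss _ (hS0 x hx)] at h1
    exact OnePoint.coe_injective (Φ.injective h1)
  have hlinv : ∀ k, lam k⁻¹ = (lam k)⁻¹ := fun k => eq_inv_of_mul_eq_one_left (by rw [← map_mul, inv_mul_cancel, map_one])
  set c := S 1 with hc
  have hc0 : c ≠ 0 := hS0 1 one_ne_zero
  have hSsq : ∀ x, x ≠ 0 → IsSquare x → S x = c / x := fun x hx hxs => by
    have := hSk 1 x one_ne_zero hx hxs
    rw [mul_one] at this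
    rw [this, div_eq_inv_mul]
  have hdich : ∀ x : F, x ≠ 0 → ¬ IsSquare x → x ^ e = -1 := fun x hx hxs => by
    rcases FiniteField.pow_dichotomy hchar hx with h | h
    · exact absurd ((hsq_iff x hx).mpr (hhalf ▸ h)) hxs
    · exact hhalf ▸ h
  obtain ⟨ν, hν⟩ := FiniteField.exists_nonsquare (F := F) hchar
  have hν0 : ν ≠ 0 := fun h => hν (h ▸ IsSquare.zero)
  have hSns : ∀ x, x ≠ 0 → ¬ IsSquare x → S x = ν * S ν / x := fun x hx hxs => by
    have hq' : IsSquare (x / ν) := by
      rw [hsq_iff _ (div_ne_zero hx hν0), div_pow, hdich x hx hxs, hdich ν hν0 hν, div_self]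
      exact neg_ne_zero.mpr one_ne_zero
    have h1 := hSk ν (x / ν) hν0 (div_ne_zero hx hν0) hq'
    rw [div_mul_cancel₀ _ hν0] at h1
    rw [h1]
    field_simp
  have key : IsSquare (-c) ∧ ∀ x, x ≠ 0 → S x = c / x := by
    by_cases hneg : IsSquare (-1 : F)
    · -- `-1` is a square
      set T : G := (φ (-c) : G) * s * (φ 1 : G) * s * (φ (-c) : G) with hT
      have hsm : ∀ x : F, IsSquare x → IsSquare (-x) := fun x hx => by
        have := hneg.mul hx; rwa [neg_one_mul] at this
      have hTa : T • Φ OnePoint.infty = Φ (0 : F) := by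
        rw [hT]
        simp only [mul_smul]
        rw [hua, hsa, hu, zero_add, hss 1 one_ne_zero, hu, ← hc, add_neg_cancel]
      have hSc : S c = 1 := by rw [hc, hSS 1 one_ne_zero]
      have hTb : T • Φ (0 : F) = Φ OnePoint.infty := by
        rw [hT]
        simp only [mul_smul]
        have hm : S (-c) = -1 := by
          have := hSk c (-1) hc0 (neg_ne_zero.mpr one_ne_zero) hneg
          rw [neg_one_mul, hSc, inv_neg, inv_one, mul_one] at this
          exact this
        rw [hu, zero_add, hss _ (neg_ne_zero.mpr hc0), hm, hu, neg_add_cancel, hsb, hua]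
      have hkK : s * T ∈ (two (G := G) a b) := mem_two.mpr
        ⟨by rw [← hΦi, mul_smul, hTa, hsb], by rw [← hΦ0, mul_smul, hTb, hsa]⟩
      set k₀ : (two (G := G) a b) := ⟨s * T, hkK⟩
      have hTk : ∀ x : F, T • Φ (x : OnePoint F) = s • Φ ((lam k₀ * x : F) : OnePoint F) := fun x => by
        rw [← hk k₀ x, ← mul_smul]
        show _ = (s * (s * T)) • _
        rw [← mul_assoc, hs.sq, one_mul]
      have hl : (lam k₀)⁻¹ = -c := by
        have h1 := hTk c
        rw [hT] at h1
        simp only [mul_smul] at h1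
        rw [hu, add_neg_cancel, hsb, hua, hsa, hu, zero_add, hss _ (mul_ne_zero (hlam0 k₀) hc0)] at h1
        have h2 := OnePoint.coe_injective (Φ.injective h1)
        rw [hSk c _ hc0 (hlam0 k₀) (hlamsq k₀), hSc, mul_one] at h2
        exact h2.symm
      have hcs : IsSquare (-c) := hl ▸ (hlamsq k₀).inv
      have hcs' : IsSquare c := by have := hsm _ hcs; rwa [neg_neg] at this
      refine ⟨hcs, fun x hx => ?_⟩
      by_cases hxs : IsSquare x
      · exact hSsq x hx hxs
      rw [hSns x hx hxs]
      congr 1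
      -- a square `y` such that `y + c` is not a square
      obtain ⟨y, hy0, hys, hyc⟩ : ∃ y, y ≠ 0 ∧ IsSquare y ∧ ¬ IsSquare (y + c) := by
        by_contra! hcl
        set S0 : Finset F := Finset.univ.filter fun y => IsSquare y with hS0'
        have hmaps : ∀ y ∈ S0, y + c ∈ S0 := fun y hy => by
          simp only [hS0', Finset.mem_filter, Finset.mem_univ, true_and] at hy ⊢
          by_cases hy0 : y = 0
          · rw [hy0, zero_add]; exact hcs'
          · exact hcl y hy0 hy
        have himg : S0.image (· + c) = S0 :=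
          Finset.eq_of_subset_of_card_le (Finset.image_subset_iff.mpr hmaps)
            (by rw [Finset.card_image_of_injective _ (add_left_injective c)])
        have hsum : ∑ y ∈ S0.image (· + c), y = ∑ y ∈ S0, y := by rw [himg]
        rw [Finset.sum_image (fun _ _ _ _ h => add_left_injective c h), Finset.sum_add_distrib,
          add_eq_left, Finset.sum_const, nsmul_eq_mul, mul_eq_zero] at hsum
        have hcard : S0.card = e + 1 := by
          haveI := Fintype.ofFinite (two (G := G) a b)
          have hS0eq : S0 = insert 0 (Finset.univ.image lam) := by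
            ext y
            simp only [hS0', Finset.mem_filter, Finset.mem_univ, true_and, Finset.mem_insert, Finset.mem_image]
            refine ⟨fun hy => ?_, ?_⟩
            · by_cases hy0 : y = 0
              · exact Or.inl hy0
              · exact Or.inr (hsurj y hy0 hy)
            · rintro (rfl | ⟨k, rfl⟩)
              · exact IsSquare.zero
              · exact hlamsq k
          rw [hS0eq, Finset.card_insert_of_notMem (by simp [hlam0]), Finset.card_image_of_injective _ hlam,
            Finset.card_univ, ← Nat.card_eq_fintype_card]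
        have hcast : ((2 * e + 1 : ℕ) : F) = 0 := by rw [← hq]; exact FiniteField.cast_card_eq_zero F
        rcases hsum with h | h
        · rw [hcard] at h
          push_cast at h hcast
          exact one_ne_zero (α := F) (by linear_combination 2 * h - hcast)
        · exact hc0 h
      have hyc0 : y + c ≠ 0 := fun h => hyc (h ▸ IsSquare.zero)
      have h1 := hTk (y + c)
      rw [hT] at h1
      simp only [mul_smul] at h1
      rw [hu, show y + c + -c = y by ring, hss y hy0, hu, hSsq y hy0 hys] at h1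
      have hz : c / y + 1 = (y + c) / y := by field_simp; ring
      have hzs : ¬ IsSquare ((y + c) / y) := fun h => hyc (by
        have := h.mul hys; rwa [div_mul_cancel₀ _ hy0] at this)
      rw [hz, hss _ (div_ne_zero hyc0 hy0), hu, hss _ (mul_ne_zero (hlam0 k₀) hyc0),
        hSns _ (div_ne_zero hyc0 hy0) hzs, hSk _ _ hyc0 (hlam0 k₀) (hlamsq k₀), hSns _ hyc0 hyc, hl] at h1
      have h2 := OnePoint.coe_injective (Φ.injective h1)
      field_simp at h2
      refine mul_right_cancel₀ hyc0 ?_
      linear_combination h2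
    · -- `-1` is not a square
      have hoddK : Odd e := by
        by_contra h
        exact hneg ((hsq_iff _ (neg_ne_zero.mpr one_ne_zero)).mpr (Nat.not_odd_iff_even.mp h).neg_one_pow)
      have hcns : ¬ IsSquare c := by
        rintro ⟨r, hr⟩
        have hr0 : r ≠ 0 := fun h => hc0 (by rw [hr, h, mul_zero])
        obtain ⟨r', hr'0, hr's, hr'c⟩ : ∃ r', r' ≠ 0 ∧ IsSquare r' ∧ c = r' * r' := by
          by_cases hrs : IsSquare r
          · exact ⟨r, hr0, hrs, hr⟩
          · refine ⟨-r, neg_ne_zero.mpr hr0, ?_, by rw [hr]; ring⟩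
            rw [hsq_iff _ (neg_ne_zero.mpr hr0), neg_pow, hdich r hr0 hrs, hoddK.neg_one_pow]
            ring
        have hfix : s • Φ (r' : OnePoint F) = Φ (r' : OnePoint F) := by
          rw [hss r' hr'0, hSsq r' hr'0 hr's, hr'c, mul_div_assoc, div_self hr'0, mul_one]
        haveI := A.zg.2.1
        haveI : IsPretransitive G Ω := isPretransitive_of_is_two_pretransitive
        obtain ⟨g, hg⟩ := exists_smul_eq G (Φ (r' : OnePoint F)) a
        have hst : g * s * g⁻¹ ∈ stabilizer G a := by
          rw [mem_stabilizer_iff, mul_smul, mul_smul, inv_smul_eq_iff.mpr hg.symm, hfix, hg]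
        have hs1 : s ≠ 1 := fun h1 => A.ne (by simpa [h1] using hs.sa)
        have ho : orderOf (g * s * g⁻¹) = 2 := by
          rw [← MulAut.conj_apply, MulEquiv.orderOf_eq]
          exact orderOf_eq_prime (by rw [pow_two, hs.sq]) hs1
        have h2 : 2 ∣ Nat.card (stabilizer G a) := ho ▸ Subgroup.orderOf_dvd_natCard _ hst
        rw [A.card_stab, ← he', show Nat.card H = 2 * e + 1 by have := Nat.card_pos (α := H); omega] at h2
        have : Odd ((2 * e + 1) * e) := (odd_two_mul_add_one e).mul hoddK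
        exact Nat.not_even_iff_odd.mpr this (even_iff_two_dvd.mpr h2)
      refine ⟨?_, fun x hx => ?_⟩
      · rw [hsq_iff _ (neg_ne_zero.mpr hc0), neg_pow, hdich c hc0 hcns, hoddK.neg_one_pow]
        ring
      · by_cases hxs : IsSquare x
        · exact hSsq x hx hxs
        · rw [hSns x hx hxs]
          congr 1
          have h1 := hSns c hc0 hcns
          rw [hc, hSS 1 one_ne_zero, ← hc, eq_div_iff hc0, one_mul] at h1
          exact h1.symm
  obtain ⟨⟨μ, hμ⟩, hSall⟩ := key
  have hμ0 : μ ≠ 0 := fun h => hc0 (neg_eq_zero.mp (by rw [hμ, h, mul_zero]))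
  -- the linear group
  let θ₀ : Matrix.SpecialLinearGroup (Fin 2) F →* Equiv.Perm Ω :=
    (Φ.permCongrHom.toMonoidHom.comp (MulAction.toPermHom (GL (Fin 2) F) (OnePoint F))).comp
      Matrix.SpecialLinearGroup.toGL
  have hθ : ∀ (g : Matrix.SpecialLinearGroup (Fin 2) F) (x : OnePoint F),
      θ₀ g (Φ x) = Φ ((Matrix.SpecialLinearGroup.toGL g) • x) := fun g x => by
    simp [θ₀, Equiv.permCongrHom, Equiv.permCongr_apply]
  have hentry : ∀ (g : Matrix.SpecialLinearGroup (Fin 2) F) (i j : Fin 2),
      (Matrix.SpecialLinearGroup.toGL g : GL (Fin 2) F) i j = g i j := fun g i j => rfl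
  let σ : G →* Equiv.Perm Ω := MulAction.toPermHom G Ω
  haveI := A.zg.1
  have hσinj : Function.Injective σ := MulAction.toPerm_injective
  have hmem : ∀ (g : G) (p q r t : F), p * t - q * r = 1 →
      g • Φ OnePoint.infty = Φ (if r = 0 then OnePoint.infty else ((p / r : F) : OnePoint F)) →
      (∀ x : F, g • Φ (x : OnePoint F) =
        Φ (if r * x + t = 0 then OnePoint.infty else (((p * x + q) / (r * x + t) : F) : OnePoint F))) →
      σ g ∈ θ₀.range := by
    intro g p q r t hdet hi hx
    let M : Matrix.SpecialLinearGroup (Fin 2) F :=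
      ⟨!![p, q; r, t], by rw [Matrix.det_fin_two_of]; exact hdet⟩
    have m00 : (Matrix.SpecialLinearGroup.toGL M : GL (Fin 2) F) 0 0 = p := rfl
    have m01 : (Matrix.SpecialLinearGroup.toGL M : GL (Fin 2) F) 0 1 = q := rfl
    have m10 : (Matrix.SpecialLinearGroup.toGL M : GL (Fin 2) F) 1 0 = r := rfl
    have m11 : (Matrix.SpecialLinearGroup.toGL M : GL (Fin 2) F) 1 1 = t := rfl
    refine ⟨M, Equiv.ext fun w => ?_⟩
    obtain ⟨x, rfl⟩ := Φ.surjective w
    refine (hθ M x).trans ?_
    show _ = g • Φ x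
    cases x with
    | infty => rw [hi, OnePoint.smul_infty_eq_ite, m00, m10]
    | coe x => rw [hx x, OnePoint.smul_some_eq_ite, m00, m01, m10, m11]
  have hu_mem : ∀ α : F, σ (φ α : G) ∈ θ₀.range := fun α =>
    hmem _ 1 α 0 1 (by ring) (by rw [hua, if_pos rfl]) fun x => by
      rw [hu, if_neg (by simp)]; simp
  have hs_mem : σ s ∈ θ₀.range := by
    refine hmem _ 0 (c / μ) μ⁻¹ 0 ?_ ?_ fun x => ?_
    · field_simp
      linear_combination hμ
    · rw [hsa, if_neg (inv_ne_zero hμ0), zero_div]
    · by_cases hx : x = 0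
      · subst hx; rw [hsb, if_pos (by ring)]
      · rw [hss x hx, hSall x hx, if_neg (by simp [hx, hμ0])]
        congr 2
        field_simp
        ring_nf
        field_simp
  have hk_mem : ∀ k : (two (G := G) a b), σ (k : G) ∈ θ₀.range := fun k => by
    obtain ⟨m, hm⟩ := hlamsq k
    have hm0 : m ≠ 0 := fun h => hlam0 k (by rw [hm, h, mul_zero])
    refine hmem _ m 0 0 m⁻¹ ?_ ?_ fun x => ?_
    · rw [mul_inv_cancel₀ hm0]; ring
    · rw [if_pos rfl, hΦi]; exact (mem_two.mp k.2).1
    · rw [hk, hm, if_neg (by simp [hm0])]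
      congr 2
      field_simp
      ring
  have hstab : ∀ g : G, g • a = a → σ g ∈ θ₀.range := fun g hga => by
    obtain ⟨w, hw, -⟩ := A.reg b (g • b) A.ne.symm
      (fun h => A.ne.symm ((smul_left_cancel_iff g).mp (h.trans hga.symm)))
    obtain ⟨α, rfl⟩ := hφ.2 w
    have hkm : (φ α : G)⁻¹ * g ∈ (two (G := G) a b) := mem_two.mpr
      ⟨by rw [mul_smul, hga]; exact inv_smul_eq_iff.mpr (A.le (φ α).2).symm,
        by rw [mul_smul, ← hw, inv_smul_smul]⟩
    have := Subgroup.mul_mem _ (hu_mem α) (hk_mem ⟨_, hkm⟩)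
    rwa [← map_mul, mul_inv_cancel_left] at this
  have hrange : σ.range ≤ θ₀.range := by
    rintro _ ⟨g, rfl⟩
    by_cases hga : g • a = a
    · exact hstab g hga
    obtain ⟨w, hw, -⟩ := A.reg b (g • a) A.ne.symm hga
    obtain ⟨α, rfl⟩ := hφ.2 w
    have h1 : (((φ α : G) * s)⁻¹ * g) • a = a := by
      rw [mul_smul, inv_smul_eq_iff, mul_smul, hs.sa, hw]
    have := Subgroup.mul_mem _ (Subgroup.mul_mem _ (hu_mem α) hs_mem) (hstab _ h1)
    rwa [← map_mul, ← map_mul, mul_inv_cancel_left] at this
  have hker : Subgroup.center (Matrix.SpecialLinearGroup (Fin 2) F) ≤ θ₀.ker := by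
    intro z hz
    obtain ⟨r, hr, hz'⟩ := Matrix.SpecialLinearGroup.mem_center_iff.mp hz
    have hr0 : r ≠ 0 := fun h => by rw [h] at hr; simp at hr
    refine MonoidHom.mem_ker.mpr (Equiv.ext fun w => ?_)
    obtain ⟨x, rfl⟩ := Φ.surjective w
    refine (hθ _ x).trans ?_
    have e00 : z 0 0 = r := by rw [← hz']; simp
    have e01 : z 0 1 = 0 := by rw [← hz']; simp
    have e10 : z 1 0 = 0 := by rw [← hz']; simp
    have e11 : z 1 1 = r := by rw [← hz']; simp
    cases x with
    | infty => rw [OnePoint.smul_infty_eq_ite]; simp [hentry, e10]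
    | coe x => rw [OnePoint.smul_some_eq_ite]; simp [hentry, e00, e01, e10, e11, hr0]
  let θ : Matrix.ProjectiveSpecialLinearGroup (Fin 2) F →* Equiv.Perm Ω :=
    QuotientGroup.lift _ θ₀ hker
  have hθr : θ₀.range ≤ θ.range := by
    rintro _ ⟨g, rfl⟩
    exact ⟨QuotientGroup.mk g, rfl⟩
  haveI : Finite (Matrix.ProjectiveSpecialLinearGroup (Fin 2) F) := Quotient.finite _
  have hGcard : Nat.card G = Nat.card (Matrix.ProjectiveSpecialLinearGroup (Fin 2) F) := by
    have h := Cfsg.Agent.ProjLine.two_mul_card_psl (F := F)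
    rw [Nat.card_eq_fintype_card (α := F), hq, Nat.add_sub_cancel, Nat.gcd_mul_right_right] at h
    rw [A.card_group, show Nat.card H = 2 * e + 1 by have := Nat.card_pos (α := H); omega, ← he']
    refine mul_left_cancel₀ (show 4 * e ≠ 0 by omega) ?_
    linear_combination -h
  have hle : σ.range ≤ θ.range := hrange.trans hθr
  have hσc : Nat.card σ.range = Nat.card G := Nat.card_congr (MonoidHom.ofInjective hσinj).toEquiv.symm
  have hθc : Nat.card θ.range ≤ Nat.card (Matrix.ProjectiveSpecialLinearGroup (Fin 2) F) :=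
    Nat.card_le_card_of_surjective θ.rangeRestrict θ.rangeRestrict_surjective
  have heq' : σ.range = θ.range := Subgroup.eq_of_le_of_card_ge hle (by omega)
  have hbij : Function.Bijective θ.rangeRestrict := by
    haveI := Fintype.ofFinite (Matrix.ProjectiveSpecialLinearGroup (Fin 2) F)
    haveI := Fintype.ofFinite θ.range
    refine (Fintype.bijective_iff_surjective_and_card _).mpr ⟨θ.rangeRestrict_surjective, ?_⟩
    rw [← Nat.card_eq_fintype_card, ← Nat.card_eq_fintype_card, ← heq']
    omega
  exact ⟨(MonoidHom.ofInjective hσinj).trans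
    ((MulEquiv.subgroupCongr heq').trans (MulEquiv.ofBijective θ.rangeRestrict hbij).symm)⟩

end Ab

end Cfsg.Agent.ZassAb
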