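import Cfsg.Agent.Lib.ZassAbelian.OddInv
import Cfsg.Agent.Lib.ZassAbelian.Ident

/-!
# Zassenhaus groups with abelian kernel
-/

set_option autoImplicit false
set_option linter.style.haveILetI false

namespace Cfsg.Agent.ZassAb

open Cfsg.Agent.Zass MulAction

universe u v

variable {G : Type u} [Group G] [Finite G] {Ω : Type v} [MulAction G Ω] [Fintype Ω]

namespace Ab

variable {a b : Ω} {H : Subgroup G} (A : Ab a b H)
include A

theorem sharply (heq : Nat.card (two (G := G) a b) = Nat.card H - 1) :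
    IsMultiplyPretransitive G Ω 3 ∧ ∀ t : Fin 3 ↪ Ω, stabilizer G t = ⊥ := by
  classical
  have hstab : ∀ t : Fin 3 ↪ Ω, stabilizer G t = ⊥ := fun t => by
    refine (Subgroup.eq_bot_iff_forall _).mpr fun g hg => ?_
    have hg' : ∀ i, g • t i = t i := fun i =>
      congrArg (fun e : Fin 3 ↪ Ω => e i) (mem_stabilizer_iff.mp hg)
    exact three A.zg (t.injective.ne (show (0 : Fin 3) ≠ 1 by decide))
      (t.injective.ne (show (1 : Fin 3) ≠ 2 by decide))
      (t.injective.ne (show (0 : Fin 3) ≠ 2 by decide)) (hg' 0) (hg' 1) (hg' 2)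
  haveI := Fintype.ofFinite G
  have hcard : Nat.card G = Fintype.card (Fin 3 ↪ Ω) := by
    rw [A.card_group, heq, Fintype.card_embedding_eq, Fintype.card_fin, ← A.card_H]
    simp only [Nat.descFactorial_succ, Nat.descFactorial_zero, Nat.sub_zero, mul_one]
    rw [show Nat.card H + 1 - 1 = Nat.card H from rfl,
      show Nat.card H + 1 - 2 = Nat.card H - 1 by omega]
    ring
  refine ⟨⟨fun x y => ?_⟩, hstab⟩
  have hinj : Function.Injective fun g : G => g • x := fun g g' h => by
    have h' : g'⁻¹ * g ∈ stabilizer G x := by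
      rw [mem_stabilizer_iff, mul_smul]
      exact inv_smul_eq_iff.mpr h
    rw [hstab x, Subgroup.mem_bot] at h'
    exact (inv_mul_eq_one.mp h').symm
  exact ((Fintype.bijective_iff_injective_and_card _).mpr
    ⟨hinj, by rw [← Nat.card_eq_fintype_card, hcard]⟩).2 y

theorem main : (IsMultiplyPretransitive G Ω 3 ∧ ∀ t : Fin 3 ↪ Ω, stabilizer G t = ⊥) ∨
    ∃ (K : Type) (_ : Field K) (_ : Fintype K), ringChar K ≠ 2 ∧
      Nonempty (G ≃* Matrix.ProjectiveSpecialLinearGroup (Fin 2) K) := by
  rcases A.dichotomy with h | ⟨heq, s, hs, hcase⟩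
  · exact Or.inl (A.sharply h)
  refine Or.inr ?_
  have hinv : ∀ k ∈ two (G := G) a b, s * k * s = k⁻¹ := hcase.elim (fun ho => A.inv_odd heq ho hs) id
  have habK : ∀ k ∈ two (G := G) a b, ∀ l ∈ two (G := G) a b, k * l = l * k := by
    intro k hk l hl
    refine inv_injective ?_
    rw [← hinv _ (mul_mem hk hl), ← hinv _ (mul_mem hl hk)]
    calc s * (k * l) * s = (s * k * s) * (s * l * s) := by
          rw [show s * k * s * (s * l * s) = s * k * (s * s) * l * s by group, hs.sq]; group
      _ = (l * k)⁻¹ := by rw [hinv k hk, hinv l hl]; group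
      _ = s * (l * k) * s := (hinv _ (mul_mem hl hk)).symm
  obtain ⟨F, _, _, φ, lam, hφ, hadd, hlam, hact⟩ := A.exists_field heq habK
  obtain ⟨h2, hiso⟩ := A.equiv_psl φ lam hφ hadd hlam hact heq hs hinv
  exact ⟨F, inferInstance, inferInstance, h2, hiso⟩

end Ab

end Cfsg.Agent.ZassAb
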