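import Cfsg.Agent.Lib.Zassenhaus.Feit
import Mathlib.GroupTheory.FixedPointFree
import Mathlib.GroupTheory.Perm.Cycle.Type

/-!
# Zassenhaus groups with abelian kernel: the two-point stabiliser is large
-/

set_option autoImplicit false
set_option linter.style.haveILetI false
set_option linter.unusedSectionVars false

namespace Cfsg.Agent.ZassAb

open Cfsg.Agent.Zass MulAction

universe u v

variable {G : Type u} [Group G] [Finite G] {Ω : Type v} [MulAction G Ω] [Fintype Ω]

/-- A Zassenhaus group with an abelian regular normal subgroup of a point stabiliser. -/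
structure Ab (a b : Ω) (H : Subgroup G) : Prop where
  zg : Cfsg.IsZassenhausGroup G Ω
  ne : a ≠ b
  le : H ≤ stabilizer G a
  normal : ∀ g ∈ stabilizer G a, ∀ u ∈ H, g * u * g⁻¹ ∈ H
  comm : ∀ u ∈ H, ∀ v ∈ H, u * v = v * u
  reg : ∀ y z : Ω, y ≠ a → z ≠ a → ∃! u : H, (u : G) • y = z

theorem card_dvd_of_free {A : Type*} [Group A] [Finite A] {S : Type*} [Finite S] [MulAction A S]
    (hfree : ∀ (g : A) (s : S), g • s = s → g = 1) : Nat.card A ∣ Nat.card S := by
  classical
  haveI := Fintype.ofFinite (Quotient (orbitRel A S))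
  rw [Nat.card_congr (selfEquivSigmaOrbitsQuotientStabilizer A S), Nat.card_sigma]
  refine Finset.dvd_sum fun ω _ => ?_
  rw [show stabilizer A ω.out = ⊥ from (Subgroup.eq_bot_iff_forall _).mpr fun g hg => hfree g _ hg,
    ← Subgroup.index_eq_card, Subgroup.index_bot]

namespace Ab

variable {a b : Ω} {H : Subgroup G} (A : Ab a b H)
include A

theorem fixed {u : G} (hu : u ∈ H) (hu1 : u ≠ 1) {c : Ω} (hc : u • c = c) : c = a := by
  by_contra hne
  obtain ⟨w, -, hw⟩ := A.reg c c hne hne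
  have h1 := hw ⟨u, hu⟩ hc
  have h2 := hw ⟨1, H.one_mem⟩ (one_smul _ _)
  exact hu1 (congrArg Subtype.val (h1.trans h2.symm))

theorem smul_b_ne {u : G} (hu : u ∈ H) : u • b ≠ a := fun h =>
  A.ne.symm (((smul_left_cancel_iff u).mp (h.trans (A.le hu).symm)))

theorem card_H : Nat.card H + 1 = Fintype.card Ω := by
  classical
  have e : Nat.card H = Nat.card {c : Ω // c ≠ a} := by
    refine Nat.card_congr (Equiv.ofBijective (fun u : H => ⟨(u : G) • b, A.smul_b_ne u.2⟩) ⟨?_, ?_⟩)
    · intro u v huv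
      obtain ⟨w, -, hw⟩ := A.reg b _ A.ne.symm (A.smul_b_ne v.2)
      exact (hw u (congrArg Subtype.val huv)).trans (hw v rfl).symm
    · rintro ⟨c, hc⟩
      obtain ⟨w, hw, -⟩ := A.reg b c A.ne.symm hc
      exact ⟨w, Subtype.ext hw⟩
  rw [e, Nat.card_eq_fintype_card, Fintype.card_subtype_compl, Fintype.card_subtype_eq,
    Nat.sub_add_cancel (Fintype.card_pos_iff.mpr ⟨a⟩)]

/-- An element of the two-point stabiliser commuting with a non-identity element of `H` is trivial. -/
theorem eq_one_of_comm {k u : G} (hk : k ∈ two (G := G) a b) (hu : u ∈ H) (hu1 : u ≠ 1)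
    (h : k * u = u * k) : k = 1 := by
  obtain ⟨ka, kb⟩ := mem_two.mp hk
  have hb : u • b ≠ b := fun e => A.ne.symm (A.fixed hu hu1 e)
  exact three A.zg A.ne hb.symm (A.smul_b_ne hu).symm ka kb (by rw [← mul_smul, h, mul_smul, kb])

theorem conj_inv {k : G} (hk : k ∈ two (G := G) a b) (hk2 : k * k = 1) (hk1 : k ≠ 1) {u : G} (hu : u ∈ H) :
    k * u * k⁻¹ = u⁻¹ := by
  have hka : k ∈ stabilizer G a := (mem_two.mp hk).1
  let φ : H →* H :=
    { toFun := fun v => ⟨k * v * k⁻¹, A.normal k hka v v.2⟩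
      map_one' := Subtype.ext (by simp)
      map_mul' := fun v w => Subtype.ext (by show k * ((v : G) * w) * k⁻¹ = k * v * k⁻¹ * (k * w * k⁻¹); group) }
  have hfp : MonoidHom.FixedPointFree φ := fun v hv => by
    by_contra hv1
    exact hk1 (A.eq_one_of_comm hk v.2 (fun e => hv1 (Subtype.ext e))
      (mul_inv_eq_iff_eq_mul.mp (congrArg Subtype.val hv)))
  have hinv : k⁻¹ = k := inv_eq_of_mul_eq_one_right hk2
  have h2 : Function.Involutive φ := fun v => Subtype.ext (by
    show k * (k * v * k⁻¹) * k⁻¹ = v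
    rw [hinv, show k * (k * (v : G) * k) * k = (k * k) * v * (k * k) by group, hk2, one_mul, mul_one])
  exact congrArg Subtype.val (congrFun (hfp.coe_eq_inv_of_involutive h2) ⟨u, hu⟩)

theorem invol_unique {k l : G} (hk : k ∈ two (G := G) a b) (hk2 : k * k = 1) (hk1 : k ≠ 1)
    (hl : l ∈ two (G := G) a b) (hl2 : l * l = 1) (hl1 : l ≠ 1) : k = l := by
  obtain ⟨u, hu, hu1⟩ : ∃ u ∈ H, u ≠ 1 := by
    by_contra h
    push Not at h
    have hH : H = ⊥ := (Subgroup.eq_bot_iff_forall H).mpr h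
    have h2 := A.card_H
    rw [hH, Subgroup.card_bot] at h2
    obtain ⟨g, hg1, p, q, hpq, hgp, hgq⟩ := A.zg.2.2.2.1
    refine hg1 (A.zg.1.eq_of_smul_eq_smul fun c => ?_)
    have : c = p ∨ c = q := by
      by_contra hc
      push Not at hc
      classical
      have := Finset.card_le_univ ({c, p, q} : Finset Ω)
      rw [Finset.card_insert_of_notMem (by simp [hc.1, hc.2]), Finset.card_pair hpq] at this
      omega
    rw [one_smul]
    rcases this with rfl | rfl <;> assumption
  have hlinv : l⁻¹ = l := inv_eq_of_mul_eq_one_right hl2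
  refine mul_inv_eq_one.mp (A.eq_one_of_comm (Subgroup.mul_mem _ hk (Subgroup.inv_mem _ hl)) hu hu1 ?_)
  have h1 : l * u * l⁻¹ = u⁻¹ := A.conj_inv hl hl2 hl1 hu
  have h2 : k * u⁻¹ * k⁻¹ = u := by simpa using A.conj_inv hk hk2 hk1 (H.inv_mem hu)
  calc k * l⁻¹ * u = k * l * u := by rw [hlinv]
    _ = k * (l * u * l⁻¹) * k⁻¹ * (k * l) := by group
    _ = u * (k * l) := by rw [h1, h2]
    _ = u * (k * l⁻¹) := by rw [hlinv]

theorem card_stab : Nat.card (stabilizer G a) = Nat.card H * Nat.card (two (G := G) a b) := by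
  rw [card_stab_eq A.zg A.ne, ← A.card_H, Nat.add_sub_cancel]

theorem card_group : Nat.card G = (Nat.card H + 1) * (Nat.card H * Nat.card (two (G := G) a b)) := by
  haveI := A.zg.2.1
  haveI : IsPretransitive G Ω := isPretransitive_of_is_two_pretransitive
  rw [← (stabilizer G a).card_mul_index, index_stabilizer_of_transitive, Nat.card_eq_fintype_card (α := Ω),
    ← A.card_H, A.card_stab, mul_comm]

theorem e_dvd : Nat.card (two (G := G) a b) ∣ Nat.card H - 1 := by
  classical
  let S := {c : Ω // c ≠ a ∧ c ≠ b}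
  letI : MulAction (two (G := G) a b) S :=
    { smul := fun k c => ⟨(k : G) • c.1,
        fun h => c.2.1 ((smul_left_cancel_iff (k : G)).mp (h.trans (mem_two.mp k.2).1.symm)),
        fun h => c.2.2 ((smul_left_cancel_iff (k : G)).mp (h.trans (mem_two.mp k.2).2.symm))⟩
      one_smul := fun c => Subtype.ext (one_smul G c.1)
      mul_smul := fun k l c => Subtype.ext (mul_smul (k : G) (l : G) c.1) }
  have hS : Nat.card S = Nat.card H - 1 := by
    rw [Nat.card_eq_fintype_card, Fintype.card_subtype]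
    rw [show (Finset.univ.filter fun c : Ω => c ≠ a ∧ c ≠ b) = (Finset.univ.erase a).erase b from by
      ext c; simp [and_comm]]
    rw [Finset.card_erase_of_mem (Finset.mem_erase.mpr ⟨A.ne.symm, Finset.mem_univ _⟩),
      Finset.card_erase_of_mem (Finset.mem_univ _), Finset.card_univ, ← A.card_H]
    omega
  rw [← hS]
  refine card_dvd_of_free fun k c hc => Subtype.ext ?_
  exact three A.zg A.ne (Ne.symm c.2.2) (Ne.symm c.2.1) (mem_two.mp k.2).1 (mem_two.mp k.2).2
    (congrArg Subtype.val hc)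

theorem two_pos : 2 ≤ Nat.card (two (G := G) a b) := by
  obtain ⟨g, hg1, p, q, hpq, hgp, hgq⟩ := A.zg.2.2.2.1
  obtain ⟨c, hc1, hc2⟩ := move A.zg hpq A.ne
  haveI : Nontrivial (two (G := G) a b) := by
    refine ⟨⟨⟨c * g * c⁻¹, mem_two.mpr ⟨?_, ?_⟩⟩, 1, fun e => hg1 (conj_eq_one_iff.mp (congrArg Subtype.val e))⟩⟩
    · rw [← hc1, mul_smul, mul_smul, inv_smul_smul, hgp]
    · rw [← hc2, mul_smul, mul_smul, inv_smul_smul, hgq]
  exact Finite.one_lt_card

theorem even_case (hev : Even (Nat.card (two (G := G) a b))) :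
    Nat.card H - 1 ≤ 2 * Nat.card (two (G := G) a b) ∧
      (Nat.card H - 1 = 2 * Nat.card (two (G := G) a b) →
        ∃ s : G, Swap a b s ∧ ∀ g : G, g • a = b → g • b = a → g * g = 1) := by
  classical
  haveI := Fintype.ofFinite G
  haveI : Fact (Nat.Prime 2) := ⟨Nat.prime_two⟩
  obtain ⟨z, hz⟩ := exists_prime_orderOf_dvd_card' (G := two (G := G) a b) 2 hev.two_dvd
  obtain ⟨za, zb⟩ := mem_two.mp z.2
  have hz2 : (z : G) * z = 1 := by
    rw [← pow_two, ← Subgroup.coe_pow, ← hz, pow_orderOf_eq_one, Subgroup.coe_one]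
  have hz1 : (z : G) ≠ 1 := fun e => by
    rw [← Subgroup.orderOf_coe, e, orderOf_one] at hz
    omega
  have hinv : (z : G)⁻¹ = z := inv_eq_of_mul_eq_one_right hz2
  -- an involution fixing any given pair
  have hex : ∀ c d : Ω, c ≠ d → ∃ t : G, t * t = 1 ∧ t ≠ 1 ∧ t • c = c ∧ t • d = d := by
    intro c d hcd
    obtain ⟨g, ga, gb⟩ := move A.zg A.ne hcd
    refine ⟨g * z * g⁻¹, ?_, fun e => hz1 (conj_eq_one_iff.mp e), ?_, ?_⟩
    · rw [show g * z * g⁻¹ * (g * z * g⁻¹) = g * ((z : G) * z) * g⁻¹ by group, hz2]; group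
    · rw [← ga, mul_smul, mul_smul, inv_smul_smul, za]
    · rw [← gb, mul_smul, mul_smul, inv_smul_smul, zb]
  have huniq : ∀ {c d : Ω}, c ≠ d → ∀ {t t' : G}, t * t = 1 → t ≠ 1 → t • c = c → t • d = d →
      t' * t' = 1 → t' ≠ 1 → t' • c = c → t' • d = d → t = t' := by
    intro c d hcd t t' h2 h1 tc td h2' h1' tc' td'
    obtain ⟨g, gc, gd⟩ := move A.zg hcd A.ne
    have hm : ∀ w : G, w • c = c → w • d = d → g * w * g⁻¹ ∈ two (G := G) a b := fun w wc wd =>
      mem_two.mpr ⟨by rw [← gc, mul_smul, mul_smul, inv_smul_smul, wc],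
        by rw [← gd, mul_smul, mul_smul, inv_smul_smul, wd]⟩
    have hsq : ∀ w : G, w * w = 1 → g * w * g⁻¹ * (g * w * g⁻¹) = 1 := fun w hw => by
      rw [show g * w * g⁻¹ * (g * w * g⁻¹) = g * (w * w) * g⁻¹ by group, hw]; group
    have := A.invol_unique (hm t tc td) (hsq t h2) (fun e => h1 (conj_eq_one_iff.mp e))
      (hm t' tc' td') (hsq t' h2') (fun e => h1' (conj_eq_one_iff.mp e))
    simpa using this
  set S : Finset Ω := (Finset.univ.erase a).erase b with hS
  have hSc : S.card = Nat.card H - 1 := by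
    rw [hS, Finset.card_erase_of_mem (Finset.mem_erase.mpr ⟨A.ne.symm, Finset.mem_univ _⟩),
      Finset.card_erase_of_mem (Finset.mem_univ _), Finset.card_univ, ← A.card_H]
    omega
  set W : Finset G := Finset.univ.filter fun g => g • a = b ∧ g • b = a with hW
  have hWc : W.card = Nat.card (two (G := G) a b) := by
    obtain ⟨g, ga, gb⟩ := move A.zg A.ne A.ne.symm
    rw [Nat.card_eq_fintype_card, ← Finset.card_univ]
    symm
    refine Finset.card_bij (fun k _ => g * (k : G)) (fun k _ => ?_) (fun k _ l _ h => ?_) fun w hw => ?_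
    · rw [hW, Finset.mem_filter, mul_smul, mul_smul, (mem_two.mp k.2).1, (mem_two.mp k.2).2]
      exact ⟨Finset.mem_univ _, ga, gb⟩
    · exact Subtype.ext (mul_left_cancel h)
    · obtain ⟨-, wa, wb⟩ := Finset.mem_filter.mp hw
      refine ⟨⟨g⁻¹ * w, mem_two.mpr ⟨?_, ?_⟩⟩, Finset.mem_univ _, mul_inv_cancel_left g w⟩
      · rw [mul_smul, wa, ← ga, inv_smul_smul]
      · rw [mul_smul, wb, ← gb, inv_smul_smul]
  have key : ∀ c ∈ S, ∃ t ∈ W, t * t = 1 ∧ t ≠ 1 ∧ t • c = c := by
    intro c hc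
    simp only [hS, Finset.mem_erase, Finset.mem_univ, and_true] at hc
    obtain ⟨hcb, hca⟩ := hc
    have hcd : c ≠ (z : G) • c := fun e => hz1 (three A.zg A.ne (Ne.symm hcb) (Ne.symm hca) za zb e.symm)
    obtain ⟨t, t2, t1, tc, td⟩ := hex c _ hcd
    have hzt : (z : G) * t * z = t := by
      refine huniq hcd ?_ ?_ ?_ ?_ t2 t1 tc td
      · rw [show (z : G) * t * z * (z * t * z) = z * (t * ((z : G) * z) * t) * z by group, hz2, mul_one, t2,
          mul_one, hz2]
      · exact fun e => t1 (conj_eq_one_iff.mp (show (z : G) * t * (z : G)⁻¹ = 1 by rw [hinv, e]))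
      · rw [mul_smul, mul_smul, td, ← mul_smul, hz2, one_smul]
      · rw [mul_smul, mul_smul, ← mul_smul (z : G) (z : G) c, hz2, one_smul, tc]
    have hcomm : (z : G) * t = t * z := by
      calc (z : G) * t = z * t * ((z : G) * z) := by rw [hz2, mul_one]
        _ = z * t * z * z := by group
        _ = t * z := by rw [hzt]
    have hab : ∀ d : Ω, (z : G) • d = d → d = a ∨ d = b := fun d hd => by
      by_contra h
      push Not at h
      exact hz1 (three A.zg A.ne (Ne.symm h.2) (Ne.symm h.1) za zb hd)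
    have hta : (z : G) • (t • a) = t • a := by rw [← mul_smul, hcomm, mul_smul, za]
    rcases hab _ hta with h | h
    · have hda : (z : G) • c ≠ a := fun e => hca ((smul_left_cancel_iff (z : G)).mp (e.trans za.symm))
      exact absurd (three A.zg (Ne.symm hca) hcd (Ne.symm hda) h tc td) t1
    · exact ⟨t, Finset.mem_filter.mpr ⟨Finset.mem_univ _, h, by rw [← h, ← mul_smul, t2, one_smul]⟩, t2, t1, tc⟩
  choose! f hfW hf2 hf1 hfc using key
  have hfib : ∀ t ∈ W.filter (fun t => t * t = 1), (S.filter fun c => f c = t).card ≤ 2 := by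
    intro t ht
    obtain ⟨htW, -⟩ := Finset.mem_filter.mp ht
    have ht1 : t ≠ 1 := fun e => A.ne (by simpa [e] using (Finset.mem_filter.mp htW).2.1)
    by_contra h
    obtain ⟨x, hx, y, hy, w, hw, hxy, hxw, hyw⟩ := Finset.two_lt_card.mp (not_le.mp h)
    obtain ⟨xS, rfl⟩ := Finset.mem_filter.mp hx
    obtain ⟨yS, hye⟩ := Finset.mem_filter.mp hy
    obtain ⟨wS, hwe⟩ := Finset.mem_filter.mp hw
    exact ht1 (three A.zg hxy hyw hxw (hfc x xS) (hye ▸ hfc y yS) (hwe ▸ hfc w wS))
  have hle : S.card ≤ 2 * (W.filter fun t => t * t = 1).card :=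
    Finset.card_le_mul_card_image_of_maps_to (f := f)
      (fun c hc => Finset.mem_filter.mpr ⟨hfW c hc, hf2 c hc⟩) 2 hfib
  refine ⟨?_, fun heq => ?_⟩
  · have := Finset.card_filter_le W (fun t => t * t = 1)
    omega
  · have hall : W.filter (fun t => t * t = 1) = W :=
      Finset.eq_of_subset_of_card_le (Finset.filter_subset _ _) (by omega)
    have hsq : ∀ g : G, g • a = b → g • b = a → g * g = 1 := fun g ga gb => by
      have hg : g ∈ W.filter (fun t => t * t = 1) :=
        hall.symm ▸ Finset.mem_filter.mpr ⟨Finset.mem_univ _, ga, gb⟩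
      exact (Finset.mem_filter.mp hg).2
    obtain ⟨g, ga, gb⟩ := move A.zg A.ne A.ne.symm
    exact ⟨g, ⟨ga, gb, hsq g ga gb⟩, hsq⟩

/-- The dichotomy. -/
theorem dichotomy : Nat.card (two (G := G) a b) = Nat.card H - 1 ∨
    (Nat.card H - 1 = 2 * Nat.card (two (G := G) a b) ∧
      ∃ s : G, Swap a b s ∧ (Odd (Nat.card (two (G := G) a b)) ∨
        ∀ k ∈ two (G := G) a b, s * k * s = k⁻¹)) := by
  have hd := A.e_dvd
  have h2 := A.two_pos
  have hh : 2 ≤ Nat.card H := by
    by_contra hcon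
    obtain ⟨g, hg1, p, q, hpq, hgp, hgq⟩ := A.zg.2.2.2.1
    refine hg1 (A.zg.1.eq_of_smul_eq_smul fun c => ?_)
    rw [one_smul]
    by_contra hne
    classical
    have hc3 := Finset.card_le_univ ({c, p, q} : Finset Ω)
    rw [Finset.card_insert_of_notMem (by
      simp only [Finset.mem_insert, Finset.mem_singleton]
      rintro (rfl | rfl)
      exacts [hne hgp, hne hgq]), Finset.card_pair hpq, ← A.card_H] at hc3
    omega
  have hbound : Nat.card H - 1 ≤ 2 * Nat.card (two (G := G) a b) ∧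
      (Nat.card H - 1 = 2 * Nat.card (two (G := G) a b) →
        ∃ s : G, Swap a b s ∧ (Odd (Nat.card (two (G := G) a b)) ∨
          ∀ k ∈ two (G := G) a b, s * k * s = k⁻¹)) := by
    rcases Nat.even_or_odd (Nat.card (two (G := G) a b)) with hev | hodd
    · obtain ⟨h1, h3⟩ := A.even_case hev
      refine ⟨h1, fun heq => ?_⟩
      obtain ⟨s, hs, hsq⟩ := h3 heq
      refine ⟨s, hs, Or.inr fun k hk => ?_⟩
      obtain ⟨ka, kb⟩ := mem_two.mp hk
      have h4 := hsq (s * k) (by rw [mul_smul, ka, hs.sa]) (by rw [mul_smul, kb, hs.sb])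
      exact eq_inv_of_mul_eq_one_left (by rw [← h4]; group)
    · let D : Zass.Data a b H :=
        ⟨A.zg, A.ne, A.le, A.card_H, fun u hu hu1 c hc => A.fixed hu hu1 hc, hodd⟩
      refine ⟨?_, fun _ => ?_⟩
      · by_contra hlt
        haveI := Fintype.ofFinite G
        obtain ⟨-, ⟨u, v, huv⟩, -⟩ := D.feit (not_le.mp hlt)
        exact huv (Subtype.ext (A.comm u u.2 v v.2))
      · obtain ⟨s, hs⟩ := D.exists_swap
        exact ⟨s, hs, Or.inl hodd⟩
  obtain ⟨m, hm⟩ := hd
  rcases (show m = 1 ∨ m = 2 by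
      have h1 := hbound.1
      rw [hm] at h1
      have : m ≤ 2 := le_of_mul_le_mul_left (by rw [mul_comm 2] at h1; exact h1) (by omega : 0 < _)
      rcases Nat.eq_zero_or_pos m with rfl | hpos
      · omega
      · omega) with rfl | rfl
  · exact Or.inl (by omega)
  · exact Or.inr ⟨by omega, hbound.2 (by omega)⟩

end Ab

end Cfsg.Agent.ZassAb
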