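import Cfsg.Agent.Lib.ZassAbelian.Main
import Mathlib.GroupTheory.PGroup

/-!
# The kernel of a Zassenhaus group has prime power order
-/

set_option autoImplicit false
set_option linter.style.haveILetI false
set_option linter.unusedSectionVars false

namespace Cfsg.Agent.ZassKer

open Cfsg.Agent.Zass MulAction

universe u v

variable {G : Type u} [Group G] [Finite G] {Ω : Type v} [MulAction G Ω] [Fintype Ω]

/-- A kernel of a point stabiliser, without any parity assumption. -/
structure Ker (a b : Ω) (H : Subgroup G) : Prop where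
  zg : Cfsg.IsZassenhausGroup G Ω
  ne : a ≠ b
  le : H ≤ stabilizer G a
  card : Nat.card H + 1 = Fintype.card Ω
  fixed : ∀ u ∈ H, u ≠ 1 → ∀ c : Ω, u • c = c → c = a
  normal : ∀ g ∈ stabilizer G a, ∀ u ∈ H, g * u * g⁻¹ ∈ H

theorem exists_ker (hZ : Cfsg.IsZassenhausGroup G Ω) {a b : Ω} (hab : a ≠ b) :
    ∃ H : Subgroup G, Ker a b H := by
  obtain ⟨K, hK, hKc, hKm⟩ := exists_kernel hZ hab
  refine ⟨K, hZ, hab, hK, hKc, fun u hu hu1 => ((hKm u (hK hu)).mp hu).resolve_left hu1,
    fun g hg u hu => ?_⟩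
  have hmem : g * u * g⁻¹ ∈ stabilizer G a := mul_mem (mul_mem hg (hK hu)) (inv_mem hg)
  refine (hKm _ hmem).mpr ?_
  rcases (hKm u (hK hu)).mp hu with rfl | h
  · left; simp
  · refine Or.inr fun c hc => ?_
    rw [mul_smul, mul_smul, ← eq_inv_smul_iff] at hc
    have h1 := h _ hc
    rwa [inv_smul_eq_iff, mem_stabilizer_iff.mp hg] at h1

namespace Ker

variable {a b : Ω} {H : Subgroup G} (D : Ker a b H)
include D

theorem smul_ne_a {u : G} (hu : u ∈ H) {y : Ω} (hy : y ≠ a) : u • y ≠ a := fun h =>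
  hy ((smul_left_cancel_iff u).mp (h.trans (mem_stabilizer_iff.mp (D.le hu)).symm))

theorem reg : ∀ y z : Ω, y ≠ a → z ≠ a → ∃! u : H, (u : G) • y = z := by
  intro y z hy hz
  classical
  have hinj : ∀ u v : H, (u : G) • y = (v : G) • y → u = v := by
    intro u v h
    by_contra hne
    refine hy (D.fixed _ (H.mul_mem (H.inv_mem v.2) u.2) (fun e => hne (Subtype.ext ?_)) y ?_)
    · exact (inv_mul_eq_one.mp e).symm
    · rw [mul_smul, h, inv_smul_smul]
  have hcard : Nat.card {c : Ω // c ≠ a} = Nat.card H := by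
    rw [Nat.card_eq_fintype_card, Fintype.card_subtype_compl, Fintype.card_subtype_eq, ← D.card]
    omega
  obtain ⟨u, hu⟩ := ((Nat.bijective_iff_injective_and_card
      (fun u : H => (⟨(u : G) • y, D.smul_ne_a u.2 hy⟩ : {c : Ω // c ≠ a}))).mpr
    ⟨fun u v h => hinj u v (congrArg Subtype.val h), hcard.symm⟩).2 ⟨z, hz⟩
  have hu' : (u : G) • y = z := congrArg Subtype.val hu
  exact ⟨u, hu', fun v hv => hinj v u (hv.trans hu'.symm)⟩

theorem eq_one_of_comm {k u : G} (hk : k ∈ two (G := G) a b) (hu : u ∈ H) (hu1 : u ≠ 1)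
    (h : k * u = u * k) : k = 1 := by
  obtain ⟨ka, kb⟩ := mem_two.mp hk
  have hb : u • b ≠ b := fun e => D.ne.symm (D.fixed u hu hu1 b e)
  exact three D.zg D.ne hb.symm (D.smul_ne_a hu D.ne.symm).symm ka kb
    (by rw [← mul_smul, h, mul_smul, kb])

theorem comm_of_even (hev : Even (Nat.card (two (G := G) a b))) : ∀ u ∈ H, ∀ v ∈ H, u * v = v * u := by
  classical
  haveI := Fintype.ofFinite G
  haveI : Fact (Nat.Prime 2) := ⟨Nat.prime_two⟩
  obtain ⟨z, hz⟩ := exists_prime_orderOf_dvd_card' (G := two (G := G) a b) 2 hev.two_dvd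
  have hz2 : (z : G) * z = 1 := by
    rw [← pow_two, ← Subgroup.coe_pow, ← hz, pow_orderOf_eq_one, Subgroup.coe_one]
  have hz1 : (z : G) ≠ 1 := fun e => by
    rw [← Subgroup.orderOf_coe, e, orderOf_one] at hz
    omega
  have hza : (z : G) ∈ stabilizer G a := (mem_two.mp z.2).1
  have hinv : (z : G)⁻¹ = z := inv_eq_of_mul_eq_one_right hz2
  let φ : H →* H :=
    { toFun := fun v => ⟨z * v * (z : G)⁻¹, D.normal z hza v v.2⟩
      map_one' := Subtype.ext (by simp)
      map_mul' := fun v w => Subtype.ext (by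
        show (z : G) * ((v : G) * w) * (z : G)⁻¹ = z * v * (z : G)⁻¹ * (z * w * (z : G)⁻¹); group) }
  have hfp : MonoidHom.FixedPointFree φ := fun v hv => by
    by_contra hv1
    exact hz1 (D.eq_one_of_comm z.2 v.2 (fun e => hv1 (Subtype.ext e))
      (mul_inv_eq_iff_eq_mul.mp (congrArg Subtype.val hv)))
  have h2 : Function.Involutive φ := fun v => Subtype.ext (by
    show (z : G) * (z * v * (z : G)⁻¹) * (z : G)⁻¹ = v
    rw [hinv, show (z : G) * (z * (v : G) * z) * z = ((z : G) * z) * v * ((z : G) * z) by group, hz2,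
      one_mul, mul_one])
  exact fun u hu v hv => congrArg Subtype.val (hfp.commute_all_of_involutive h2 ⟨u, hu⟩ ⟨v, hv⟩).eq

theorem ab (hc : ∀ u ∈ H, ∀ v ∈ H, u * v = v * u) : Cfsg.Agent.ZassAb.Ab a b H :=
  ⟨D.zg, D.ne, D.le, D.normal, hc, D.reg⟩

theorem data (hodd : Odd (Nat.card (two (G := G) a b))) : Zass.Data a b H :=
  ⟨D.zg, D.ne, D.le, D.card, D.fixed, hodd⟩

theorem two_le : 2 ≤ Nat.card H := by
  classical
  by_contra hcon
  obtain ⟨g, hg1, p, q, hpq, hgp, hgq⟩ := D.zg.2.2.2.1
  refine hg1 (D.zg.1.eq_of_smul_eq_smul fun c => ?_)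
  rw [one_smul]
  by_contra hne
  have hc3 := Finset.card_le_univ ({c, p, q} : Finset Ω)
  rw [Finset.card_insert_of_notMem (by
    simp only [Finset.mem_insert, Finset.mem_singleton]
    rintro (rfl | rfl)
    exacts [hne hgp, hne hgq]), Finset.card_pair hpq, ← D.card] at hc3
  omega

/-- Either the kernel is a `2`-group, or the two-point stabiliser is large. -/
theorem small_or_large : IsPGroup 2 H ∨ Nat.card H - 1 ≤ 2 * Nat.card (two (G := G) a b) := by
  haveI := Fintype.ofFinite G
  rcases Nat.even_or_odd (Nat.card (two (G := G) a b)) with hev | hodd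
  · rcases (D.ab (D.comm_of_even hev)).dichotomy with h | ⟨h, -⟩ <;> omega
  · by_cases hbig : 2 * Nat.card (two (G := G) a b) < Nat.card H - 1
    · exact Or.inl ((D.data hodd).feit hbig).1
    · exact Or.inr (not_lt.mp hbig)

theorem e_dvd_orderOf (r : ℕ) (hr : r ≠ 1) :
    Nat.card (two (G := G) a b) ∣ Nat.card {u : H // orderOf u = r} := by
  let c : two (G := G) a b → H → H := fun k u =>
    ⟨(k : G) * u * (k : G)⁻¹, D.normal k (mem_two.mp k.2).1 u u.2⟩
  have hord : ∀ k u, orderOf (c k u) = orderOf u := fun k u => by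
    rw [← Subgroup.orderOf_coe, ← Subgroup.orderOf_coe u]
    exact orderOf_injective (MulAut.conj (k : G)).toMonoidHom (MulAut.conj (k : G)).injective u
  letI : MulAction (two (G := G) a b) {u : H // orderOf u = r} :=
    { smul := fun k u => ⟨c k u.1, (hord k u.1).trans u.2⟩
      one_smul := fun u => Subtype.ext (Subtype.ext (by
        show ((1 : two (G := G) a b) : G) * (u.1 : G) * ((1 : two (G := G) a b) : G)⁻¹ = _; simp))
      mul_smul := fun k l u => Subtype.ext (Subtype.ext (by
        show ((k * l : two (G := G) a b) : G) * (u.1 : G) * ((k * l : two (G := G) a b) : G)⁻¹ =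
          (k : G) * ((l : G) * (u.1 : G) * (l : G)⁻¹) * (k : G)⁻¹
        rw [Subgroup.coe_mul]; group)) }
  refine Cfsg.Agent.ZassAb.card_dvd_of_free fun k u hu => Subtype.ext ?_
  have h' : (k : G) * (u.1 : G) * (k : G)⁻¹ = (u.1 : G) :=
    congrArg (fun x : {u : H // orderOf u = r} => ((x.1 : H) : G)) hu
  refine D.eq_one_of_comm k.2 u.1.2 (fun e => hr ?_) (mul_inv_eq_iff_eq_mul.mp h')
  rw [← u.2, ← Subgroup.orderOf_coe, e, orderOf_one]

theorem isPrimePow : IsPrimePow (Nat.card H) := by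
  classical
  have h2 := D.two_le
  rcases D.small_or_large with hp | hlarge
  · haveI : Fact (Nat.Prime 2) := ⟨Nat.prime_two⟩
    obtain ⟨k, hk⟩ := IsPGroup.iff_card.mp hp
    rw [hk]
    exact Nat.prime_two.isPrimePow.pow (fun h => by rw [h, pow_zero] at hk; omega)
  haveI : Fintype H := Fintype.ofFinite H
  by_contra hnp
  obtain ⟨p, hp, hpd⟩ := Nat.exists_prime_and_dvd (by omega : Nat.card H ≠ 1)
  obtain ⟨q, hq, hqd, hqp⟩ : ∃ q, q.Prime ∧ q ∣ Nat.card H ∧ q ≠ p := by
    by_contra hcon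
    push Not at hcon
    have h := Nat.eq_prime_pow_of_unique_prime_dvd (n := Nat.card H) (by omega) fun {d} hd hdd => hcon d hd hdd
    refine hnp ((isPrimePow_nat_iff _).mpr ⟨p, _, hp, Nat.pos_of_ne_zero (fun h0 => ?_), h.symm⟩)
    rw [h0, pow_zero] at h
    omega
  haveI := Fact.mk hp
  haveI := Fact.mk hq
  set e := Nat.card (two (G := G) a b) with he
  set Sp : Finset H := Finset.univ.filter fun u => orderOf u = p with hSp
  set Sq : Finset H := Finset.univ.filter fun u => orderOf u = q with hSq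
  have hcardS : ∀ r : ℕ, r.Prime → r ∣ Nat.card H →
      e ≤ (Finset.univ.filter fun u : H => orderOf u = r).card ∧
      e ∣ (Finset.univ.filter fun u : H => orderOf u = r).card := by
    intro r hr hrd
    haveI := Fact.mk hr
    have hd := D.e_dvd_orderOf r hr.one_lt.ne'
    rw [Nat.card_eq_fintype_card (α := {u : H // orderOf u = r}), Fintype.card_subtype] at hd
    obtain ⟨x, hx⟩ := exists_prime_orderOf_dvd_card' (G := H) r hrd
    exact ⟨Nat.le_of_dvd (Finset.card_pos.mpr ⟨x, by simp [hx]⟩) hd, hd⟩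
  have hdis : Disjoint Sp Sq := by
    rw [Finset.disjoint_left]
    intro u hu hu'
    simp only [hSp, hSq, Finset.mem_filter] at hu hu'
    exact hqp (hu'.2.symm.trans hu.2)
  have hsub : Sp ∪ Sq ⊆ Finset.univ.erase 1 := by
    intro u hu
    refine Finset.mem_erase.mpr ⟨fun h => ?_, Finset.mem_univ _⟩
    subst h
    simp only [hSp, hSq, Finset.mem_union, Finset.mem_filter, orderOf_one] at hu
    rcases hu with ⟨-, h⟩ | ⟨-, h⟩
    exacts [hp.one_lt.ne h, hq.one_lt.ne h]
  have hle := Finset.card_le_card hsub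
  rw [Finset.card_union_of_disjoint hdis, Finset.card_erase_of_mem (Finset.mem_univ _), Finset.card_univ,
    ← Nat.card_eq_fintype_card] at hle
  obtain ⟨hep, -⟩ := hcardS p hp hpd
  obtain ⟨heq, -⟩ := hcardS q hq hqd
  change e ≤ Sp.card at hep
  change e ≤ Sq.card at heq
  have hSpc : Sp.card = e := by omega
  have hh : Nat.card H = 2 * e + 1 := by omega
  have hall : ∀ u : H, u ≠ 1 → orderOf u = p ∨ orderOf u = q := by
    intro u hu
    have heqS : Sp ∪ Sq = Finset.univ.erase 1 := Finset.eq_of_subset_of_card_le hsub (by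
      rw [Finset.card_union_of_disjoint hdis, Finset.card_erase_of_mem (Finset.mem_univ _), Finset.card_univ,
        ← Nat.card_eq_fintype_card]
      omega)
    have : u ∈ Sp ∪ Sq := heqS ▸ Finset.mem_erase.mpr ⟨hu, Finset.mem_univ _⟩
    simpa [hSp, hSq] using this
  obtain ⟨y, hy⟩ := exists_prime_orderOf_dvd_card' (G := H) p hpd
  set C : Subgroup H := Subgroup.centralizer ({y} : Set H) with hC
  have hCexp : ∀ w ∈ C, w ≠ 1 → orderOf w = p := by
    intro w hw hw1
    refine (hall w hw1).resolve_right fun hwq => ?_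
    have hc : Commute y w := (Subgroup.mem_centralizer_singleton_iff.mp hw).symm
    have hop : orderOf (y * w) = p * q := by
      rw [hc.orderOf_mul_eq_mul_orderOf_of_coprime (by rw [hy, hwq]; exact (Nat.coprime_primes hp hq).mpr hqp.symm),
        hy, hwq]
    rcases hall (y * w) (fun h => by
      rw [h, orderOf_one] at hop; exact hp.one_lt.ne' (Nat.eq_one_of_mul_eq_one_right hop.symm)) with h | h
    · rw [hop] at h
      exact hq.one_lt.ne' (Nat.eq_of_mul_eq_mul_left hp.pos (h.trans (mul_one p).symm))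
    · rw [hop] at h
      exact hp.one_lt.ne' (Nat.eq_of_mul_eq_mul_right hq.pos (h.trans (one_mul q).symm))
  have hCp : IsPGroup p C := fun w => by
    rcases eq_or_ne w 1 with rfl | hw
    · exact ⟨0, by simp⟩
    · refine ⟨1, ?_⟩
      rw [pow_one, ← hCexp (w : H) w.2 (fun h => hw (Subtype.ext h)), Subgroup.orderOf_coe]
      exact pow_orderOf_eq_one w
  obtain ⟨j, hj⟩ := IsPGroup.iff_card.mp hCp
  have hyC : y ∈ C := Subgroup.mem_centralizer_singleton_iff.mpr rfl
  have hj1 : 1 ≤ j := by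
    by_contra hj0
    have hC1 : C = ⊥ := Subgroup.eq_bot_of_card_le C (by rw [hj, show j = 0 by omega, pow_zero])
    rw [hC1, Subgroup.mem_bot] at hyC
    rw [hyC, orderOf_one] at hy
    exact hp.one_lt.ne hy
  let P : Subgroup H := Subgroup.zpowers y
  letI : MulAction P {u : H // orderOf u = p} :=
    { smul := fun g u => ⟨(g : H) * u.1 * (g : H)⁻¹, by
        rw [← MulAut.conj_apply, MulEquiv.orderOf_eq]; exact u.2⟩
      one_smul := fun u => Subtype.ext (by show ((1 : P) : H) * u.1 * ((1 : P) : H)⁻¹ = u.1; simp)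
      mul_smul := fun g g' u => Subtype.ext (by
        show ((g * g' : P) : H) * u.1 * ((g * g' : P) : H)⁻¹ = (g : H) * ((g' : H) * u.1 * (g' : H)⁻¹) * (g : H)⁻¹
        rw [Subgroup.coe_mul]; group) }
  have hP : IsPGroup p P := IsPGroup.of_card (n := 1) (by rw [Nat.card_zpowers, hy, pow_one])
  have hmod := hP.card_modEq_card_fixedPoints {u : H // orderOf u = p}
  have hfix : Nat.card (fixedPoints P {u : H // orderOf u = p}) = p ^ j - 1 := by
    have hset : Nat.card (fixedPoints P {u : H // orderOf u = p}) = Nat.card {w : C // w ≠ 1} := by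
      refine Nat.card_congr
        { toFun := fun u => ⟨⟨u.1.1, Subgroup.mem_centralizer_singleton_iff.mpr ?_⟩, fun h => ?_⟩
          invFun := fun w => ⟨⟨(w.1 : H), hCexp _ w.1.2 fun h => w.2 (Subtype.ext h)⟩, fun g => ?_⟩
          left_inv := fun _ => rfl
          right_inv := fun _ => rfl }
      · have hu := congrArg Subtype.val (u.2 ⟨y, Subgroup.mem_zpowers y⟩)
        exact (mul_inv_eq_iff_eq_mul.mp hu).symm
      · have h' : u.1.1 = 1 := congrArg Subtype.val h
        exact hp.one_lt.ne (by rw [← u.1.2, h', orderOf_one])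
      · obtain ⟨g, hg⟩ := g
        obtain ⟨n, rfl⟩ := Subgroup.mem_zpowers_iff.mp hg
        refine Subtype.ext (mul_inv_eq_iff_eq_mul.mpr ?_)
        have hc : Commute y (w.1 : H) := (Subgroup.mem_centralizer_singleton_iff.mp w.1.2).symm
        exact (hc.zpow_left n).eq
    haveI : Fintype C := Fintype.ofFinite C
    rw [hset, Nat.card_eq_fintype_card, Fintype.card_subtype_compl, Fintype.card_subtype_eq,
      ← Nat.card_eq_fintype_card, hj]
  rw [hfix, Nat.card_eq_fintype_card, Fintype.card_subtype] at hmod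
  change Sp.card ≡ p ^ j - 1 [MOD p] at hmod
  rw [hSpc] at hmod
  have hpe : p ∣ e + 1 := by
    have h1 := hmod.add_right 1
    rw [Nat.sub_add_cancel (Nat.one_le_pow _ _ hp.pos)] at h1
    exact Nat.modEq_zero_iff_dvd.mp (h1.trans (Nat.modEq_zero_iff_dvd.mpr (dvd_pow_self p (by omega))))
  refine hp.not_dvd_one ((Nat.dvd_add_right (hh ▸ hpd)).mp ?_)
  rw [show 2 * e + 1 + 1 = 2 * (e + 1) by ring]
  exact hpe.mul_left 2

end Ker

end Cfsg.Agent.ZassKer
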