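import Cfsg.Agent.Lib.ZassAbelian.EvenSimple
import Cfsg.Agent.Lib.Isolated.RankOne
import Mathlib.GroupTheory.SpecificGroups.ZGroup
import Mathlib.RingTheory.IntegralDomain

/-!
# The two-point stabiliser of a simple Zassenhaus group
-/

set_option autoImplicit false
set_option linter.style.haveILetI false
set_option linter.unusedSectionVars false

namespace Cfsg.Agent.ZassKer

open Cfsg.Agent.Zass MulAction

universe u v

variable {G : Type u} [Group G] [Finite G] {Ω : Type v} [MulAction G Ω] [Fintype Ω]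

namespace Ker

variable {a b : Ω} {H : Subgroup G} (D : Ker a b H)
include D

theorem isCyclic_of_even_kernel (hodd : Odd (Nat.card (two (G := G) a b))) (hh : Even (Nat.card H))
    (habK : ∀ k ∈ two (G := G) a b, ∀ l ∈ two (G := G) a b, k * l = l * k) :
    IsCyclic (two (G := G) a b) := by
  classical
  have hp : IsPrimePow (Nat.card H) := D.isPrimePow
  haveI : Fact (Nat.Prime 2) := ⟨Nat.prime_two⟩
  obtain ⟨m, hm⟩ : ∃ m, Nat.card H = 2 ^ m := by
    obtain ⟨p, m, hp', hm0, hpm⟩ := (isPrimePow_nat_iff _).mp hp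
    refine ⟨m, ?_⟩
    rw [← hpm] at hh ⊢
    rw [(Nat.prime_dvd_prime_iff_eq Nat.prime_two hp').mp (Nat.prime_two.dvd_of_dvd_pow hh.two_dvd)]
  haveI : Nontrivial H := Finite.one_lt_card_iff_nontrivial.mp D.two_le
  haveI := (IsPGroup.of_card hm : IsPGroup 2 H).center_nontrivial
  letI : CommGroup (two (G := G) a b) :=
    { (inferInstance : Group (two (G := G) a b)) with mul_comm := fun x y => Subtype.ext (habK x x.2 y y.2) }
  let c : two (G := G) a b → MulAut H := fun k =>
    { toFun := fun u => ⟨k * u * (k : G)⁻¹, D.normal k (mem_two.mp k.2).1 u u.2⟩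
      invFun := fun u => ⟨(k : G)⁻¹ * u * k, by
        simpa using D.normal (k : G)⁻¹ (inv_mem (mem_two.mp k.2).1) u u.2⟩
      left_inv := fun u => Subtype.ext (by simp [mul_assoc])
      right_inv := fun u => Subtype.ext (by simp [mul_assoc])
      map_mul' := fun u v => Subtype.ext (by simp [mul_assoc]) }
  have hc : ∀ (k : two (G := G) a b) (u : H), u ∈ Subgroup.center H → c k u ∈ Subgroup.center H := fun k u hu => by
    rw [Subgroup.mem_center_iff] at hu ⊢
    intro v
    obtain ⟨w, rfl⟩ := (c k).surjective v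
    rw [← map_mul, ← map_mul, hu]
  letI : CommGroup (Subgroup.center H) :=
    { (inferInstance : Group (Subgroup.center H)) with
      mul_comm := fun u v => Subtype.ext (Subgroup.mem_center_iff.mp v.2 u) }
  let ρ : two (G := G) a b →* MulAut (Subgroup.center H) :=
    { toFun := fun k =>
        { toFun := fun u => ⟨c k u, hc k u u.2⟩
          invFun := fun u => ⟨c k⁻¹ u, hc k⁻¹ u u.2⟩
          left_inv := fun u => Subtype.ext (Subtype.ext (by simp [c, mul_assoc]))
          right_inv := fun u => Subtype.ext (Subtype.ext (by simp [c, mul_assoc]))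
          map_mul' := fun u v => Subtype.ext ((c k).map_mul u v) }
      map_one' := MulEquiv.ext fun u => Subtype.ext (Subtype.ext (by simp [c]))
      map_mul' := fun k l => MulEquiv.ext fun u => Subtype.ext (Subtype.ext (by simp [c, mul_assoc])) }
  haveI : IsZGroup (two (G := G) a b) := by
    refine ⟨fun r hr R => ?_⟩
    haveI := Fact.mk hr
    rcases eq_or_ne (R : Subgroup (two (G := G) a b)) ⊥ with h | h
    · rw [h]; exact isCyclic_of_subsingleton
    obtain ⟨n, hn⟩ := IsPGroup.iff_card.mp R.2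
    have hn0 : n ≠ 0 := fun h' => h (Subgroup.eq_bot_of_card_le _ (by rw [hn, h', pow_zero]))
    have hr2 : r ≠ 2 := fun e => by
      subst e
      exact (Nat.not_even_iff_odd.mpr hodd) (even_iff_two_dvd.mpr
        ((hn ▸ dvd_pow_self 2 hn0).trans R.card_subgroup_dvd_card))
    obtain ⟨z, hz⟩ := exists_prime_orderOf_dvd_card' (G := (R : Subgroup (two (G := G) a b))) r (hn ▸ dvd_pow_self r hn0)
    have hzr : z ^ r = 1 := orderOf_dvd_iff_pow_eq_one.mp hz.dvd
    refine Cfsg.Agent.IsolatedP.isCyclic_of_odd_unique R.2 hr2 z hzr fun x hx => ?_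
    by_contra hnot
    obtain ⟨v, hv⟩ := exists_ne (1 : Subgroup.center H)
    set X : two (G := G) a b := (x : two (G := G) a b) with hX
    set Z : two (G := G) a b := (z : two (G := G) a b) with hZ
    have hXr : X ^ r = 1 := congrArg Subtype.val hx
    have hZr : Z ^ r = 1 := congrArg Subtype.val hzr
    have hvr := Cfsg.Agent.FourOrbits.fpf_rank_two r hr (ρ X) (ρ Z) ((Commute.all X Z).map ρ)
      (by rw [← map_pow, hXr, map_one]) (by rw [← map_pow, hZr, map_one]) ?_ v
    · have hd : r ∣ 2 ^ m := by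
        rw [← hm, ← (orderOf_eq_prime hvr hv : orderOf v = r), ← Subgroup.orderOf_coe]
        exact orderOf_dvd_natCard _
      exact hr2 ((Nat.prime_dvd_prime_iff_eq hr Nat.prime_two).mp (hr.dvd_of_dvd_pow hd))
    intro i j hij u hu
    by_contra hu1
    rw [← map_pow, ← map_pow, ← map_mul] at hu
    have hW : ((X ^ i * Z ^ j : two (G := G) a b) : G) = 1 :=
      D.eq_one_of_comm (X ^ i * Z ^ j).2 (u : H).2 (fun e => hu1 (Subtype.ext (Subtype.ext e)))
        (mul_inv_eq_iff_eq_mul.mp (congrArg (fun w : Subgroup.center H => ((w : H) : G)) hu))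
    have hW' : x ^ i * z ^ j = 1 := Subtype.ext (Subtype.ext hW)
    refine hij ?_
    have hi : r ∣ i := by
      by_contra hi
      refine hnot ?_
      have hxi : x ^ i ∈ Subgroup.zpowers z := by
        rw [eq_inv_of_mul_eq_one_left hW']
        exact inv_mem (pow_mem (Subgroup.mem_zpowers z) j)
      obtain ⟨m', hm'⟩ := exists_pow_eq_self_of_coprime (x := x) (n := i) (by
        rcases (Nat.dvd_prime hr).mp (orderOf_dvd_of_pow_eq_one hx) with h1 | h1 <;> rw [h1]
        · exact Nat.coprime_one_right i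
        · exact ((Nat.Prime.coprime_iff_not_dvd hr).mpr hi).symm)
      rw [← hm']
      exact pow_mem hxi m'
    refine ⟨hi, ?_⟩
    obtain ⟨i', rfl⟩ := hi
    rw [pow_mul, hx, one_pow, one_mul] at hW'
    exact hz ▸ orderOf_dvd_of_pow_eq_one hW'
  infer_instance

theorem comm_of_half (hlt : Nat.card H - 1 ≤ 2 * Nat.card (two (G := G) a b)) :
    ∀ u ∈ H, ∀ v ∈ H, u * v = v * u := by
  classical
  obtain ⟨p, m, hp, hm0, hpm⟩ := (isPrimePow_nat_iff _).mp D.isPrimePow
  haveI := Fact.mk hp
  haveI : Nontrivial H := Finite.one_lt_card_iff_nontrivial.mp D.two_le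
  haveI := (IsPGroup.of_card hpm.symm : IsPGroup p H).center_nontrivial
  set Z := Subgroup.center H with hZ
  let c : two (G := G) a b → H →* H := fun k =>
    { toFun := fun u => ⟨k * u * (k : G)⁻¹, D.normal k (mem_two.mp k.2).1 u u.2⟩
      map_one' := Subtype.ext (by simp)
      map_mul' := fun u v => Subtype.ext (by
        show (k : G) * ((u : G) * v) * (k : G)⁻¹ = k * u * (k : G)⁻¹ * (k * v * (k : G)⁻¹); group) }
  have hcc : ∀ k l (u : H), c k (c l u) = c (k * l) u := fun k l u => Subtype.ext (by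
    show (k : G) * ((l : G) * u * (l : G)⁻¹) * (k : G)⁻¹ =
      ((k * l : two (G := G) a b) : G) * u * ((k * l : two (G := G) a b) : G)⁻¹
    rw [Subgroup.coe_mul]; group)
  have hc1 : ∀ u, c 1 u = u := fun u => Subtype.ext (by
    show ((1 : two (G := G) a b) : G) * (u : G) * ((1 : two (G := G) a b) : G)⁻¹ = u; simp)
  have hcZ : ∀ k, ∀ u ∈ Z, c k u ∈ Z := fun k u hu => by
    rw [Subgroup.mem_center_iff] at hu ⊢
    intro v
    rw [show v = c k (c k⁻¹ v) by rw [hcc, mul_inv_cancel, hc1], ← map_mul, ← map_mul, hu]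
  letI : MulAction (two (G := G) a b) {u : Z // u ≠ 1} :=
    { smul := fun k u => ⟨⟨c k u.1, hcZ k _ u.1.2⟩, fun e => u.2 (Subtype.ext (Subtype.ext
        (conj_eq_one_iff.mp (congrArg (fun w : Z => ((w : H) : G)) e))))⟩
      one_smul := fun u => Subtype.ext (Subtype.ext (hc1 u.1))
      mul_smul := fun k l u => Subtype.ext (Subtype.ext (hcc k l u.1).symm) }
  haveI : Fintype Z := Fintype.ofFinite Z
  have hd : Nat.card (two (G := G) a b) ∣ Nat.card Z - 1 := by
    have h1 : Nat.card {u : Z // u ≠ 1} = Nat.card Z - 1 := by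
      rw [Nat.card_eq_fintype_card, Fintype.card_subtype_compl, Fintype.card_subtype_eq, Nat.card_eq_fintype_card]
    rw [← h1]
    refine Cfsg.Agent.ZassAb.card_dvd_of_free fun k u hku => Subtype.ext ?_
    exact D.eq_one_of_comm k.2 (u.1 : H).2 (fun e => u.2 (Subtype.ext (Subtype.ext e)))
      (mul_inv_eq_iff_eq_mul.mp (congrArg (fun w : {u : Z // u ≠ 1} => ((w.1 : H) : G)) hku))
  have hZtop : Z = ⊤ := by
    have h2 : 1 < Nat.card Z := Finite.one_lt_card
    obtain ⟨d, hd'⟩ := Z.card_subgroup_dvd_card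
    have hle := Nat.le_of_dvd (by omega) hd
    refine Subgroup.eq_top_of_card_eq _ ?_
    have hd0 : d ≠ 0 := fun e => by
      rw [e, mul_zero] at hd'; exact Nat.card_pos.ne' hd'
    rcases (show d = 1 ∨ 2 ≤ d by omega) with rfl | hd2
    · omega
    · exfalso
      rcases lt_or_eq_of_le hd2 with h3 | h3
      · have := Nat.mul_le_mul_left (Nat.card Z) h3
        omega
      · subst h3; omega
  intro u hu v hv
  exact (congrArg Subtype.val (Subgroup.mem_center_iff.mp (show (⟨u, hu⟩ : H) ∈ Z from hZtop ▸ Subgroup.mem_top _) ⟨v, hv⟩)).symm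

theorem cyclic_inverted [IsSimpleGroup G] :
    IsCyclic (two (G := G) a b) ∧ ∃ s : G, Swap a b s ∧ ∀ k ∈ two (G := G) a b, s * k * s = k⁻¹ := by
  classical
  have habK : ∀ {s : G}, Swap a b s → (∀ k ∈ two (G := G) a b, s * k * s = k⁻¹) →
      ∀ k ∈ two (G := G) a b, ∀ l ∈ two (G := G) a b, k * l = l * k := by
    intro s hs hinv k hk l hl
    refine inv_injective ?_
    rw [← hinv _ (mul_mem hk hl), ← hinv _ (mul_mem hl hk)]
    calc s * (k * l) * s = (s * k * s) * (s * l * s) := by
          rw [show s * k * s * (s * l * s) = s * k * (s * s) * l * s by group, hs.sq]; group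
      _ = (l * k)⁻¹ := by rw [hinv k hk, hinv l hl]; group
      _ = s * (l * k) * s := (hinv _ (mul_mem hl hk)).symm
  have hfield : ∀ (A : ZassAb.Ab a b H), Nat.card H - 1 = 2 * Nat.card (two (G := G) a b) →
      ∀ {s : G}, Swap a b s → (∀ k ∈ two (G := G) a b, s * k * s = k⁻¹) → IsCyclic (two (G := G) a b) := by
    intro A heq s hs hinv
    obtain ⟨F, _, _, φ, lam, -, -, hlam, -⟩ := A.exists_field heq (habK hs hinv)
    exact isCyclic_of_subgroup_isDomain lam hlam
  rcases Nat.even_or_odd (Nat.card (two (G := G) a b)) with hev | hodd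
  · have A := D.ab (D.comm_of_even hev)
    rcases A.dichotomy with h | ⟨heq, s, hs, hcase⟩
    · exact (A.not_sharp hev h).elim
    · have hinv : ∀ k ∈ two (G := G) a b, s * k * s = k⁻¹ :=
        hcase.elim (fun ho => A.inv_odd heq ho hs) id
      exact ⟨hfield A heq hs hinv, s, hs, hinv⟩
  · let Dd := D.data hodd
    rcases Nat.even_or_odd (Nat.card H) with hh | hh
    · obtain ⟨s, hs⟩ := Dd.exists_swap
      have hinv : ∀ k ∈ two (G := G) a b, s * k * s = k⁻¹ := fun k hk =>
        congrArg Subtype.val (Dd.sig_eq_inv hh hs ⟨k, hk⟩)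
      exact ⟨D.isCyclic_of_even_kernel hodd hh (habK hs hinv), s, hs, hinv⟩
    · have hle : Nat.card H - 1 ≤ 2 * Nat.card (two (G := G) a b) := by
        refine D.small_or_large.resolve_left fun hp => ?_
        haveI : Fact (Nat.Prime 2) := ⟨Nat.prime_two⟩
        obtain ⟨m, hm⟩ := IsPGroup.iff_card.mp hp
        have := D.two_le
        rw [hm] at hh this
        exact (Nat.not_even_iff_odd.mpr hh) (Nat.even_pow.mpr ⟨even_two, fun h => by simp [h] at this⟩)
      have A := D.ab (D.comm_of_half hle)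
      rcases A.dichotomy with h | ⟨heq, s, hs, -⟩
      · exfalso
        obtain ⟨k, hk⟩ := hh
        obtain ⟨l, hl⟩ := hodd
        omega
      · exact ⟨hfield A heq hs (A.inv_odd heq hodd hs), s, hs, A.inv_odd heq hodd hs⟩

end Ker

end Cfsg.Agent.ZassKer
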