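import Cfsg.Agent.Lib.BrauerSuzuki.Basic
import Cfsg.Agent.Lib.Transfer.Fusion

/-!
# A quotient of order two of a large Frobenius complement
-/

set_option autoImplicit false
set_option linter.style.haveILetI false
set_option linter.unusedSectionVars false
set_option maxHeartbeats 1000000

namespace Cfsg.Agent.ZassTwoIdx

open Cfsg.Agent

variable {K : Type*} [Group K] [Finite K]

theorem index_two_of_two_power (N : Subgroup K) [N.Normal] {n : ℕ} (hn : N.index = 2 ^ (n + 1)) :
    ∃ M : Subgroup K, M.index = 2 := by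
  haveI : Fact (Nat.Prime 2) := ⟨Nat.prime_two⟩
  have hc : Nat.card (K ⧸ N) = 2 ^ (n + 1) := hn
  obtain ⟨M, hM⟩ := Sylow.exists_subgroup_card_pow_prime 2 (G := K ⧸ N) (n := n)
    (hc ▸ pow_dvd_pow 2 (Nat.le_succ n))
  refine ⟨M.comap (QuotientGroup.mk' N), ?_⟩
  rw [Subgroup.index_comap_of_surjective _ (QuotientGroup.mk'_surjective N)]
  have h := M.card_mul_index
  rw [hM, hc, pow_succ] at h
  exact Nat.eq_of_mul_eq_mul_left (pow_pos two_pos n) h

theorem odd_index_of_abelian (hno : ∀ M : Subgroup K, M.index ≠ 2) (L : Subgroup K) [L.Normal]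
    (hL : ∀ x y : K, x * y * x⁻¹ * y⁻¹ ∈ L) : ¬ 2 ∣ L.index := by
  intro h2
  haveI : Fact (Nat.Prime 2) := ⟨Nat.prime_two⟩
  letI : CommGroup (K ⧸ L) :=
    { (inferInstance : Group (K ⧸ L)) with
      mul_comm := fun a b => by
        induction a using QuotientGroup.induction_on with
        | H x =>
          induction b using QuotientGroup.induction_on with
          | H y =>
            rw [← QuotientGroup.mk_mul, ← QuotientGroup.mk_mul, QuotientGroup.eq]
            have := hL y⁻¹ x⁻¹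
            simpa [mul_assoc] using this }
  obtain ⟨v, m, hm, hvm⟩ := Nat.exists_eq_pow_mul_and_not_dvd (n := Nat.card (K ⧸ L)) Nat.card_pos.ne' 2
    (by norm_num)
  let f : K ⧸ L →* K ⧸ L := powMonoidHom (2 ^ v)
  have hq : IsPGroup 2 ((K ⧸ L) ⧸ f.range) := fun x => by
    induction x using QuotientGroup.induction_on with
    | H a => exact ⟨v, by rw [← QuotientGroup.mk_pow, QuotientGroup.eq_one_iff]; exact ⟨a, rfl⟩⟩
  obtain ⟨n, hn⟩ := IsPGroup.iff_card.mp hq
  have hne : f.range ≠ ⊤ := fun htop => by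
    have hsurj : Function.Surjective f := MonoidHom.range_eq_top.mp htop
    have hinj := Finite.injective_iff_surjective.mpr hsurj
    obtain ⟨x, hx⟩ := exists_prime_orderOf_dvd_card' (G := K ⧸ L) 2 h2
    have hx1 : f x = f 1 := by
      rw [map_one]
      show x ^ 2 ^ v = 1
      have hv : v ≠ 0 := fun hv => by
        rw [hv, pow_zero, one_mul] at hvm
        exact hm (hvm ▸ h2)
      exact orderOf_dvd_iff_pow_eq_one.mp (by rw [hx]; exact dvd_pow_self 2 hv)
    rw [hinj hx1, orderOf_one] at hx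
    omega
  rcases n with _ | n
  · exact hne (Subgroup.index_eq_one.mp (by rw [Subgroup.index_eq_card, hn, pow_zero]))
  obtain ⟨M, hM⟩ := index_two_of_two_power (K := K) (f.range.comap (QuotientGroup.mk' L)) (n := n)
    (by rw [Subgroup.index_comap_of_surjective _ (QuotientGroup.mk'_surjective L), Subgroup.index_eq_card, hn])
  exact hno M hM

/-- An element of odd order normalising a cyclic two-subgroup centralises it. -/
theorem comm_of_cyclic {A : Subgroup K} [IsCyclic A] (hA : IsPGroup 2 A) {g : K}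
    (hg : g ∈ Subgroup.normalizer (A : Set K)) (ho : Odd (orderOf g)) : ∀ x ∈ A, g * x * g⁻¹ = x := by
  haveI : Fact (Nat.Prime 2) := ⟨Nat.prime_two⟩
  obtain ⟨n, hn⟩ := IsPGroup.iff_card.mp hA
  set gg : Subgroup.normalizer (A : Set K) := ⟨g, hg⟩ with hgg
  have h1 : orderOf (A.normalizerMonoidHom gg) ∣ orderOf g := by
    refine (orderOf_map_dvd _ _).trans ?_
    rw [← Subgroup.orderOf_coe]
  have h2 : orderOf (A.normalizerMonoidHom gg) ∣ Nat.totient (2 ^ n) := by
    rw [← hn, ← IsCyclic.card_mulAut]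
    exact orderOf_dvd_natCard _
  have hcop : Nat.Coprime (orderOf g) (Nat.totient (2 ^ n)) := by
    rcases Nat.eq_zero_or_pos n with rfl | hn0
    · simp
    · rw [Nat.totient_prime_pow Nat.prime_two hn0]
      simpa using (Nat.coprime_two_right.mpr ho).pow_right (n - 1)
  have h3 : A.normalizerMonoidHom gg = 1 := orderOf_eq_one_iff.mp (Nat.eq_one_of_dvd_coprimes hcop h1 h2)
  intro x hx
  exact congrArg Subtype.val (MulEquiv.congr_fun h3 ⟨x, hx⟩)

/-- The action of elements of odd order on two-subgroups with one involution. -/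
theorem odd_action (hR : BrauerSuzuki.RankOne K) {D : Subgroup K} (hD : IsPGroup 2 D) {g : K}
    (hg : g ∈ Subgroup.normalizer (D : Set K)) (ho : Odd (orderOf g)) :
    (∀ x ∈ D, g * x * g⁻¹ = x) ∨ (Nat.card D = 8 ∧ (∀ x ∈ D, g ^ 3 * x * (g ^ 3)⁻¹ = x) ∧
      ∃ i ∈ D, ∃ j ∈ D, orderOf i = 4 ∧ orderOf j = 4 ∧ i * i = j * j ∧ j * i * j⁻¹ = i⁻¹) := by
  classical
  haveI : Fact (Nat.Prime 2) := ⟨Nat.prime_two⟩
  have hconj : ∀ x ∈ D, g * x * g⁻¹ ∈ D := fun x hx => (Subgroup.mem_normalizer_iff.mp hg x).mp hx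
  rcases AbCyc.structure_of_pGroup (BrauerSuzuki.abCyclic hR hD) hD with hc | ⟨-, A, hAn, hA, hidx, h4, hout, -⟩
  · haveI := hc
    exact Or.inl (comm_of_cyclic hD hg ho)
  set A' : Subgroup K := A.map D.subtype with hA'
  haveI : IsCyclic A' := (A.equivMapOfInjective D.subtype D.subtype_injective).isCyclic.mp hA
  have hA'D : A' ≤ D := Subgroup.map_subtype_le A
  have hA'c : Nat.card A' = Nat.card A := Subgroup.card_map_of_injective D.subtype_injective
  have hcardD : Nat.card D = 2 * Nat.card A' := by rw [← A.card_mul_index, hidx, hA'c, mul_comm]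
  have hmemA : ∀ x (hx : x ∈ D), x ∈ A' ↔ (⟨x, hx⟩ : D) ∈ A := fun x hx =>
    ⟨fun ⟨y, hy, hyx⟩ => by rwa [show (⟨x, hx⟩ : D) = y from Subtype.ext hyx.symm],
      fun h => ⟨_, h, rfl⟩⟩
  have hout' : ∀ x ∈ D, x ∉ A' → orderOf x = 4 := fun x hx hxA => by
    rw [← hout ⟨x, hx⟩ fun h => hxA ((hmemA x hx).mpr h)]
    exact Subgroup.orderOf_coe (⟨x, hx⟩ : D)
  have hmul : ∀ {x y : K}, x ∈ D → y ∈ D → x ∉ A' → y ∉ A' → x * y ∈ A' := by
    intro x y hx hy hxA hyA
    refine (hmemA _ (mul_mem hx hy)).mpr ?_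
    exact (Subgroup.mul_mem_iff_of_index_two hidx (a := ⟨x, hx⟩) (b := ⟨y, hy⟩)).mpr
      (iff_of_false (fun h => hxA ((hmemA x hx).mpr h)) (fun h => hyA ((hmemA y hy).mpr h)))
  by_cases h8 : Nat.card A' = 4
  · refine Or.inr ⟨by omega, ?_, ?_⟩
    · -- the cube of `g` centralises
      intro x hx
      set n := orderOf g with hn
      let c : K → K := fun y => g * y * g⁻¹
      have hiter : ∀ (k : ℕ) (y : K), c^[k] y = g ^ k * y * (g ^ k)⁻¹ := by
        intro k
        induction k with
        | zero => intro y; simp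
        | succ k ih =>
          intro y
          rw [Function.iterate_succ_apply', ih]
          show g * (g ^ k * y * (g ^ k)⁻¹) * g⁻¹ = _
          rw [pow_succ']; group
      have hper : Function.IsPeriodicPt c n x := by
        show c^[n] x = x
        rw [hiter, hn, pow_orderOf_eq_one]; simp
      set P := Function.minimalPeriod c x with hP
      have hPn : P ∣ n := hper.minimalPeriod_dvd
      have hPo : Odd P := ho.of_dvd_nat hPn
      suffices h3 : P ∣ 3 by
        rw [← hiter]
        obtain ⟨k, hk⟩ := h3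
        rw [hk]
        exact (Function.isPeriodicPt_minimalPeriod c x).mul_const k
      -- the orbit and its inverse
      by_cases hxx : x * x = 1
      · have hfix : c x = x := by
          rcases eq_or_ne x 1 with rfl | hx1
          · show g * 1 * g⁻¹ = 1; simp
          · have hox : orderOf x = 2 := orderOf_eq_prime (by rw [pow_two]; exact hxx) hx1
            exact (hR.unique_invol hD (hconj x hx) hx
              (by rw [← MulAut.conj_apply, MulEquiv.orderOf_eq]; exact hox) hox :)
        rw [show P = 1 from Function.minimalPeriod_eq_one_iff_isFixedPt.mpr hfix]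
        exact one_dvd 3
      set Orb := (Finset.range P).image fun k => c^[k] x with hOrb
      have hOc : Orb.card = P := by
        rw [hOrb, Finset.card_image_of_injOn, Finset.card_range]
        exact fun k hk l hl => Function.iterate_injOn_Iio_minimalPeriod
          (Finset.mem_range.mp hk) (Finset.mem_range.mp hl)
      have hci : ∀ (k : ℕ) (y : K), c^[k] y⁻¹ = (c^[k] y)⁻¹ := fun k y => by
        rw [hiter, hiter]; group
      have hdis : Disjoint Orb (Orb.image (·⁻¹)) := by
        rw [Finset.disjoint_left]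
        intro y hy hy'
        obtain ⟨w, hw, rfl⟩ := Finset.mem_image.mp hy'
        obtain ⟨k, hk, hky⟩ := Finset.mem_image.mp hy
        obtain ⟨l, hl, rfl⟩ := Finset.mem_image.mp hw
        rw [Finset.mem_range] at hk hl
        have hxinv : c^[(P - l) + k] x = x⁻¹ := by
          rw [Function.iterate_add_apply, hky, hci, ← Function.iterate_add_apply,
            Nat.sub_add_cancel hl.le, hP, Function.iterate_minimalPeriod]
        have h2 : c^[2 * ((P - l) + k)] x = x := by
          rw [two_mul, Function.iterate_add_apply, hxinv, hci, hxinv, inv_inv]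
        have hd := Function.IsPeriodicPt.minimalPeriod_dvd h2
        have hd' : P ∣ (P - l) + k := (Nat.Coprime.dvd_of_dvd_mul_left (Nat.coprime_two_right.mpr hPo) hd)
        obtain ⟨q, hq⟩ := hd'
        rw [hq] at hxinv
        rw [((Function.isPeriodicPt_minimalPeriod c x).mul_const q).eq] at hxinv
        exact hxx (mul_eq_one_iff_eq_inv.mpr hxinv)
      obtain ⟨z0, hz0⟩ := exists_prime_orderOf_dvd_card' (G := A') 2 (by rw [h8]; norm_num)
      have hz : orderOf (z0 : K) = 2 := by rw [Subgroup.orderOf_coe, hz0]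
      have hcD : ∀ (k : ℕ) (y : K), y ∈ D → c^[k] y ∈ D := fun k => by
        induction k with
        | zero => exact fun y hy => hy
        | succ k ih => exact fun y hy => by rw [Function.iterate_succ_apply']; exact hconj _ (ih y hy)
      haveI : Fintype D := Fintype.ofFinite D
      have hsub : Orb ∪ Orb.image (·⁻¹) ⊆ ((Finset.univ : Finset D).image (fun y : D => (y : K))) \ {1, (z0 : K)} := by
        have hO : ∀ y ∈ Orb, y ∈ D ∧ y * y ≠ 1 := by
          intro y hy
          obtain ⟨k, -, rfl⟩ := Finset.mem_image.mp hy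
          refine ⟨hcD k x hx, fun e => hxx ?_⟩
          rw [hiter] at e
          have e' : g ^ k * (x * x) * (g ^ k)⁻¹ = 1 := by rw [← e]; group
          exact conj_eq_one_iff.mp e'
        intro y hy
        have hy' : y ∈ D ∧ y * y ≠ 1 := by
          rcases Finset.mem_union.mp hy with h | h
          · exact hO y h
          · obtain ⟨w, hw, rfl⟩ := Finset.mem_image.mp h
            obtain ⟨h1, h2⟩ := hO w hw
            exact ⟨inv_mem h1, fun e => h2 (by rw [← mul_inv_rev, inv_eq_one] at e; exact e)⟩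
        refine Finset.mem_sdiff.mpr ⟨Finset.mem_image.mpr ⟨⟨y, hy'.1⟩, Finset.mem_univ _, rfl⟩, fun h => ?_⟩
        rcases Finset.mem_insert.mp h with rfl | h
        · exact hy'.2 (one_mul 1)
        · rw [Finset.mem_singleton.mp h] at hy'
          exact hy'.2 (by rw [← pow_two, ← hz, pow_orderOf_eq_one])
      have hle := Finset.card_le_card hsub
      rw [Finset.card_union_of_disjoint hdis, Finset.card_image_of_injective _ inv_injective, hOc,
        Finset.card_sdiff_of_subset (fun y hy => by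
          rcases Finset.mem_insert.mp hy with rfl | h
          · exact Finset.mem_image.mpr ⟨1, Finset.mem_univ _, rfl⟩
          · exact Finset.mem_image.mpr ⟨⟨z0, hA'D z0.2⟩, Finset.mem_univ _, (Finset.mem_singleton.mp h).symm⟩),
        Finset.card_pair (fun e => by rw [← e, orderOf_one] at hz; omega),
        Finset.card_image_of_injective _ Subtype.val_injective, Finset.card_univ,
        ← Nat.card_eq_fintype_card, hcardD, h8] at hle
      obtain ⟨q, hq⟩ := hPo
      have hP13 : P = 1 ∨ P = 3 := by omega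
      rcases hP13 with h | h <;> rw [h]
      exact one_dvd 3
    · -- generators
      obtain ⟨i0, hi0⟩ := IsCyclic.exists_ofOrder_eq_natCard (α := A')
      have hi : orderOf (i0 : K) = 4 := by rw [Subgroup.orderOf_coe, hi0, h8]
      obtain ⟨j, hjD, hjA⟩ : ∃ j ∈ D, j ∉ A' := by
        by_contra hcon
        push Not at hcon
        have := Subgroup.card_le_of_le (hcon : D ≤ A')
        omega
      have hj := hout' j hjD hjA
      have hsq : ∀ y : K, orderOf y = 4 → orderOf (y * y) = 2 := fun y hy => by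
        rw [← pow_two, orderOf_pow_of_dvd two_ne_zero (by rw [hy]; norm_num), hy]
      have hii : (i0 : K) * i0 = j * j := hR.unique_invol hD (mul_mem (hA'D i0.2) (hA'D i0.2))
        (mul_mem hjD hjD) (hsq _ hi) (hsq _ hj)
      refine ⟨i0, hA'D i0.2, j, hjD, hi, hj, hii, ?_⟩
      have hijA : (i0 : K) * j ∉ A' := fun h => hjA (by simpa using mul_mem (inv_mem i0.2) h)
      have hij4 := hout' _ (mul_mem (hA'D i0.2) hjD) hijA
      have h1 : (i0 : K) * j * (i0 * j) = j * j := hR.unique_invol hD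
        (mul_mem (mul_mem (hA'D i0.2) hjD) (mul_mem (hA'D i0.2) hjD)) (mul_mem hjD hjD) (hsq _ hij4) (hsq _ hj)
      have h1' : (i0 : K) * j * i0 = j := mul_right_cancel (b := j) (by rw [mul_assoc]; exact h1)
      calc j * (i0 : K) * j⁻¹ = (i0 : K)⁻¹ * ((i0 : K) * j * i0) * j⁻¹ := by group
        _ = (i0 : K)⁻¹ := by rw [h1']; group
  · refine Or.inl ?_
    have hA'8 : 8 ≤ Nat.card A' := by
      obtain ⟨n, hn⟩ := IsPGroup.iff_card.mp (hD.to_le hA'D)
      rw [← hA'c, hn] at h4
      rw [hn] at h8 ⊢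
      by_contra hlt
      rw [not_le] at hlt
      have : n < 3 := by
        by_contra h
        exact absurd (Nat.pow_le_pow_right two_pos (not_lt.mp h)) (by omega)
      interval_cases n <;> simp_all
    obtain ⟨i0, hi0⟩ := IsCyclic.exists_ofOrder_eq_natCard (α := A')
    have hia : g * i0 * g⁻¹ ∈ A' := by
      by_contra h
      have h1 := hout' _ (hconj _ (hA'D i0.2)) h
      rw [← MulAut.conj_apply, MulEquiv.orderOf_eq, Subgroup.orderOf_coe, hi0] at h1
      omega
    have hmaps : ∀ y ∈ A', g * y * g⁻¹ ∈ A' := by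
      intro y hy
      obtain ⟨m, hm⟩ := Subgroup.mem_zpowers_iff.mp
        (show (⟨y, hy⟩ : A') ∈ Subgroup.zpowers i0 by
          rw [Subgroup.eq_top_of_card_eq (Subgroup.zpowers i0) (by rw [Nat.card_zpowers, hi0])]
          exact Subgroup.mem_top _)
      rw [show y = (i0 : K) ^ m by rw [← Subgroup.coe_zpow, hm], ← conj_zpow]
      exact zpow_mem hia m
    have hgA : g ∈ Subgroup.normalizer (A' : Set K) := Subgroup.mem_normalizer_fintype hmaps
    have hA'fix := comm_of_cyclic (hD.to_le hA'D) hgA ho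
    intro x hx
    by_cases hxA : x ∈ A'
    · exact hA'fix x hxA
    have hxA' : g * x * g⁻¹ ∉ A' := fun h => hxA
      ((Subgroup.mem_normalizer_iff.mp hgA x).mpr h)
    have hd : x⁻¹ * (g * x * g⁻¹) ∈ A' :=
      hmul (inv_mem hx) (hconj x hx) (fun h => hxA (by simpa using inv_mem h)) hxA'
    set w := x⁻¹ * (g * x * g⁻¹) with hw
    have hit : ∀ k : ℕ, g ^ k * x * (g ^ k)⁻¹ = x * w ^ k := by
      intro k
      induction k with
      | zero => simp
      | succ k ih =>
        rw [pow_succ', show g * g ^ k * x * (g * g ^ k)⁻¹ = g * (g ^ k * x * (g ^ k)⁻¹) * g⁻¹ by group, ih,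
          show g * (x * w ^ k) * g⁻¹ = (g * x * g⁻¹) * (g * w ^ k * g⁻¹) by group,
          hA'fix _ (pow_mem hd k), show g * x * g⁻¹ = x * w by rw [hw]; group, pow_succ']
        group
    have h1 := hit (orderOf g)
    rw [pow_orderOf_eq_one, inv_one, mul_one, one_mul] at h1
    have h2 : w ^ orderOf g = 1 := mul_left_cancel (a := x) (by rw [← h1, mul_one])
    obtain ⟨k, hk⟩ := IsPGroup.iff_orderOf.mp (hD.to_le hA'D) ⟨w, hd⟩
    rw [← Subgroup.orderOf_coe] at hk
    have hcop : Nat.Coprime (2 ^ k) (orderOf g) := (Nat.coprime_two_left.mpr ho).pow_left k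
    have hw1 : w = 1 := orderOf_eq_one_iff.mp (Nat.eq_one_of_dvd_coprimes hcop
      (by rw [show (orderOf w) = 2 ^ k from hk]) (orderOf_dvd_of_pow_eq_one h2))
    rw [hw, inv_mul_eq_one] at hw1
    exact hw1.symm

/-- A sharply transitive complement has a subgroup of index two. -/
theorem exists_index_two (hR : BrauerSuzuki.RankOne K) (h4 : 4 ∣ Nat.card K)
    (hcyc : ∀ (r : ℕ), r.Prime → r ≠ 2 → ∀ R : Subgroup K, IsPGroup r R → IsCyclic R)
    (h3 : ∀ A B : Subgroup K, Nat.card A = 3 → Nat.card B = 3 → A = B)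
    (hbound : ∀ i j : K, orderOf i = 4 → orderOf j = 4 → i * i = j * j → j * i * j⁻¹ = i⁻¹ →
      ∀ C : Subgroup K, (∀ x ∈ C, x * i = i * x ∧ x * j = j * x) →
        ∃ r : ℕ, Odd r ∧ Nat.card K + 1 = r * r ∧ Nat.card C ∣ r - 1) :
    ∃ M : Subgroup K, M.index = 2 := by
  classical
  by_contra hcon
  push Not at hcon
  haveI : Fact (Nat.Prime 2) := ⟨Nat.prime_two⟩
  haveI : Fact (Nat.Prime 3) := ⟨Nat.prime_three⟩
  have hno2 : ∀ (N : Subgroup K), N.Normal → ∀ n : ℕ, N.index = 2 ^ n → n = 0 := by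
    intro N hN n hn
    haveI := hN
    rcases n with _ | n
    · rfl
    · obtain ⟨M, hM⟩ := index_two_of_two_power N hn
      exact absurd hM (hcon M)
  have hodd_of_cop : ∀ g : K, (orderOf g).Coprime 2 → Odd (orderOf g) := fun g hg =>
    Nat.coprime_two_right.mp hg
  -- no normal 2-complement
  obtain ⟨D0, hD0, g, hg, hgo, hgc⟩ : ∃ D : Subgroup K, IsPGroup 2 D ∧
      ∃ g ∈ Subgroup.normalizer (D : Set K), (orderOf g).Coprime 2 ∧
        g ∉ Subgroup.centralizer (D : Set K) := by
    by_contra h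
    push Not at h
    obtain ⟨P, N, hN, hc⟩ := Fusion.hasNormalPComplement_of_frobenius (p := 2) (G := K) h
    obtain ⟨n, hn⟩ := IsPGroup.iff_card.mp P.2
    have hn0 := hno2 N hN n (by rw [hc.symm.index_eq_card, hn])
    rw [hn0, pow_zero] at hn
    have := P.dvd_card_of_dvd_card ((dvd_mul_right 2 2).trans h4)
    rw [hn] at this
    omega
  have hcentr : ∀ {g : K} {D : Subgroup K}, (∀ x ∈ D, g * x * g⁻¹ = x) →
      g ∈ Subgroup.centralizer (D : Set K) := fun h x hx => (mul_inv_eq_iff_eq_mul.mp (h x hx)).symm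
  obtain ⟨hD8, hcube, i, hiD, j, hjD, hi, hj, hii, hij⟩ :=
    (odd_action hR hD0 hg (hodd_of_cop g hgo)).resolve_left fun h => hgc (hcentr h)
  -- a 3-element acting on `D0`
  obtain ⟨m0, n', hn', hgn⟩ := Nat.exists_eq_pow_mul_and_not_dvd (n := orderOf g) (orderOf_pos g).ne' 3
    (by norm_num)
  set g1 := g ^ n' with hg1
  have hg1c : g1 ∉ Subgroup.centralizer (D0 : Set K) := by
    intro h
    refine hgc ?_
    have hb := Nat.gcd_eq_gcd_ab 3 n'
    rw [(Nat.Prime.coprime_iff_not_dvd Nat.prime_three).mpr hn'] at hb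
    rw [show g = g ^ ((1 : ℕ) : ℤ) by simp, hb, zpow_add, zpow_mul, zpow_mul, zpow_natCast, zpow_natCast]
    exact mul_mem (zpow_mem (hcentr hcube) _) (zpow_mem h _)
  have hg1n : g1 ∈ Subgroup.normalizer (D0 : Set K) := pow_mem hg n'
  have hg1o : orderOf g1 ∣ 3 ^ m0 := orderOf_dvd_of_pow_eq_one (by
    rw [hg1, ← pow_mul, mul_comm, ← hgn, pow_orderOf_eq_one])
  obtain ⟨k1, -, hk1⟩ := (Nat.dvd_prime_pow Nat.prime_three).mp hg1o
  have hk1pos : k1 ≠ 0 := fun h => hg1c (by
    rw [(orderOf_eq_one_iff (x := g1)).mp (by rw [hk1, h, pow_zero])]; exact one_mem _)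
  -- subgroups of order three are normal
  have hnormal3 : ∀ t : K, orderOf t = 3 → ∀ x : K, x * t * x⁻¹ ∈ Subgroup.zpowers t := by
    intro t ht x
    rw [← h3 (Subgroup.zpowers (x * t * x⁻¹)) (Subgroup.zpowers t)
      (by rw [Nat.card_zpowers, ← MulAut.conj_apply, MulEquiv.orderOf_eq, ht]) (by rw [Nat.card_zpowers, ht])]
    exact Subgroup.mem_zpowers _
  have h9 : 9 ∣ Nat.card K := by
    by_contra h9
    have hk : k1 = 1 := by
      by_contra hk
      exact h9 ((show 3 ^ 2 ∣ 3 ^ k1 from pow_dvd_pow 3 (by omega)).trans (hk1 ▸ orderOf_dvd_natCard g1))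
    rw [hk, pow_one] at hk1
    refine hg1c fun x hx => ?_
    have hw1 : x * g1 * x⁻¹ * g1⁻¹ ∈ Subgroup.zpowers g1 :=
      mul_mem (hnormal3 g1 hk1 x) (inv_mem (Subgroup.mem_zpowers g1))
    have hw2 : x * g1 * x⁻¹ * g1⁻¹ ∈ D0 := by
      rw [show x * g1 * x⁻¹ * g1⁻¹ = x * (g1 * x⁻¹ * g1⁻¹) by group]
      exact mul_mem hx ((Subgroup.mem_normalizer_iff.mp hg1n _).mp (inv_mem hx))
    have hbot : x * g1 * x⁻¹ * g1⁻¹ = 1 := by
      refine Subgroup.disjoint_def.mp (Subgroup.disjoint_of_coprime_natCard ?_) hw1 hw2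
      rw [Nat.card_zpowers, hk1, hD8]; norm_num
    exact mul_inv_eq_iff_eq_mul.mp (mul_inv_eq_one.mp hbot)
  -- the central subgroup of order three
  obtain ⟨t, ht⟩ := exists_prime_orderOf_dvd_card' (G := K) 3 ((show 3 ∣ 9 by norm_num).trans h9)
  have htc : ∀ x : K, x * t = t * x := by
    by_contra h
    push Not at h
    obtain ⟨x0, hx0⟩ := h
    have hcase : ∀ x : K, x * t * x⁻¹ = t ∨ x * t * x⁻¹ = t⁻¹ := by
      intro x
      obtain ⟨m, hm⟩ := Subgroup.mem_zpowers_iff.mp (hnormal3 t ht x)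
      rw [← hm, ← zpow_mod_orderOf, ht]
      have h1 : 0 ≤ m % 3 := Int.emod_nonneg _ (by norm_num)
      have h2 : m % 3 < 3 := Int.emod_lt_of_pos _ (by norm_num)
      have h01 : m % 3 = 0 → False := fun h0 => by
        rw [← zpow_mod_orderOf, ht, Nat.cast_ofNat, h0, zpow_zero] at hm
        rw [conj_eq_one_iff.mp hm.symm, orderOf_one] at ht
        omega
      rcases (by omega : m % ((3 : ℕ) : ℤ) = 0 ∨ m % ((3 : ℕ) : ℤ) = 1 ∨ m % ((3 : ℕ) : ℤ) = 2) with h' | h' | h'
      · exact (h01 h').elim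
      · left; rw [h', zpow_one]
      · right
        rw [h', eq_inv_iff_mul_eq_one, show t ^ (2 : ℤ) * t = t ^ 3 by group, ← ht, pow_orderOf_eq_one]
    have hC : ∀ b : K, b ∈ Subgroup.centralizer ({t} : Set K) ↔ b * t * b⁻¹ = t := fun b => by
      rw [Subgroup.mem_centralizer_singleton_iff, mul_inv_eq_iff_eq_mul]
    have hx0' : x0 * t * x0⁻¹ = t⁻¹ := (hcase x0).resolve_left fun e => hx0 (mul_inv_eq_iff_eq_mul.mp e)
    have hne : t⁻¹ ≠ t := fun e => by
      have h2 : t ^ 2 = 1 := by rw [pow_two]; nth_rewrite 1 [← e]; exact inv_mul_cancel t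
      have := orderOf_dvd_of_pow_eq_one h2
      rw [ht] at this
      omega
    refine hcon (Subgroup.centralizer ({t} : Set K)) (Subgroup.index_eq_two_iff.mpr ⟨x0, fun b => ?_⟩)
    rw [hC, hC]
    have hcomp : b * x0 * t * (b * x0)⁻¹ = (b * t * b⁻¹)⁻¹ := by
      rw [show b * x0 * t * (b * x0)⁻¹ = b * (x0 * t * x0⁻¹) * b⁻¹ by group, hx0']; group
    rcases hcase b with hb | hb
    · exact Or.inr ⟨hb, fun e => hne (by rw [hcomp, hb] at e; exact e)⟩
    · exact Or.inl ⟨by rw [hcomp, hb, inv_inv], fun e => hne (hb.symm.trans e)⟩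
  -- a normal 3-complement
  obtain ⟨R⟩ : Nonempty (Sylow 3 K) := inferInstance
  haveI hRc : IsCyclic (R : Subgroup K) := hcyc 3 Nat.prime_three (by norm_num) R R.2
  have hbur : Subgroup.normalizer (R : Set K) ≤ Subgroup.centralizer (R : Set K) := by
    intro x hx
    obtain ⟨v, u, hu, hxo⟩ := Nat.exists_eq_pow_mul_and_not_dvd (n := orderOf x) (orderOf_pos x).ne' 3
      (by norm_num)
    -- the 3-part lies in `R`
    have h3part : x ^ u ∈ Subgroup.centralizer (R : Set K) := by
      have hp : IsPGroup 3 (Subgroup.zpowers (x ^ u)) := by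
        have hd : orderOf (x ^ u) ∣ 3 ^ v := orderOf_dvd_of_pow_eq_one (by
          rw [← pow_mul, mul_comm, ← hxo, pow_orderOf_eq_one])
        obtain ⟨w, -, hw⟩ := (Nat.dvd_prime_pow Nat.prime_three).mp hd
        exact IsPGroup.of_card (n := w) (by rw [Nat.card_zpowers, hw])
      have hmem : x ^ u ∈ Subgroup.zpowers (x ^ u) ⊓ Subgroup.normalizer (R : Set K) :=
        ⟨Subgroup.mem_zpowers _, pow_mem hx u⟩
      rw [hp.inf_normalizer_sylow R] at hmem
      intro r hr
      exact congrArg Subtype.val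
        ((IsCyclic.commGroup (α := (R : Subgroup K))).mul_comm ⟨r, hr⟩ ⟨x ^ u, hmem.2⟩)
    -- the 3'-part
    have h3' : x ^ 3 ^ v ∈ Subgroup.centralizer (R : Set K) := by
      set y := x ^ 3 ^ v with hy
      let σ : MulAut (R : Subgroup K) := (R : Subgroup K).normalizerMonoidHom ⟨y, pow_mem hx _⟩
      have hσu : σ ^ u = 1 := by
        have : (⟨y, pow_mem hx _⟩ : Subgroup.normalizer ((R : Subgroup K) : Set K)) ^ u = 1 :=
          Subtype.ext (show y ^ u = 1 by rw [hy, ← pow_mul, ← hxo, pow_orderOf_eq_one])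
        show ((R : Subgroup K).normalizerMonoidHom _) ^ u = 1
        rw [← map_pow, this, map_one]
      obtain ⟨n, hn⟩ := IsPGroup.iff_card.mp R.2
      have hord : orderOf σ ∣ 2 := by
        refine Nat.Coprime.dvd_of_dvd_mul_right (n := 3 ^ (n - 1)) (Nat.Coprime.pow_right _ ?_) ?_
        · exact Nat.Coprime.coprime_dvd_left (orderOf_dvd_of_pow_eq_one hσu)
            ((Nat.Prime.coprime_iff_not_dvd Nat.prime_three).mpr hu).symm
        · have hd := orderOf_dvd_natCard σ
          rw [IsCyclic.card_mulAut, hn] at hd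
          rcases Nat.eq_zero_or_pos n with h0 | h0
          · rw [h0, pow_zero, Nat.totient_one] at hd
            exact hd.trans (one_dvd _)
          · rw [Nat.totient_prime_pow Nat.prime_three h0, mul_comm] at hd
            exact hd
      have hσ2 : ∀ r, σ (σ r) = r := fun r => by
        have := MulEquiv.congr_fun (orderOf_dvd_iff_pow_eq_one.mp hord) r
        rwa [pow_two, MulAut.mul_apply, MulAut.one_apply] at this
      have hfix : ∀ r, σ r = r := by
        intro r
        by_contra hne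
        set w := r⁻¹ * σ r with hw
        have hwinv : σ w = w⁻¹ := by rw [hw, map_mul, map_inv, hσ2]; group
        have hw1 : w ≠ 1 := fun h => hne (inv_mul_eq_one.mp h).symm
        obtain ⟨k, hk⟩ := IsPGroup.iff_orderOf.mp R.2 w
        rcases k with _ | k
        · exact hw1 (orderOf_eq_one_iff.mp (by rw [hk, pow_zero]))
        set s := w ^ 3 ^ k with hs
        have hso : orderOf s = 3 := by
          rw [hs, orderOf_pow_of_dvd (pow_ne_zero _ (by norm_num)) (hk ▸ pow_dvd_pow 3 (Nat.le_succ k)), hk,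
            pow_succ, Nat.mul_div_cancel_left _ (pow_pos (by norm_num) k)]
        have hsfix : σ s = s := by
          have hsy : ((σ s : (R : Subgroup K)) : K) = y * (s : K) * y⁻¹ := rfl
          refine Subtype.ext ?_
          rw [hsy]
          obtain ⟨m, hm⟩ := Subgroup.mem_zpowers_iff.mp ((h3 (Subgroup.zpowers ((s : (R : Subgroup K)) : K))
            (Subgroup.zpowers t) (by rw [Nat.card_zpowers, Subgroup.orderOf_coe, hso])
            (by rw [Nat.card_zpowers, ht])) ▸ Subgroup.mem_zpowers ((s : (R : Subgroup K)) : K))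
          rw [← hm, mul_inv_eq_iff_eq_mul]
          exact (Commute.zpow_right (htc y) m).eq
        have hsinv : σ s = s⁻¹ := by rw [hs, map_pow, hwinv, inv_pow]
        have h2 : s ^ 2 = 1 := by
          rw [pow_two]; nth_rewrite 1 [← hsfix]; rw [hsinv, inv_mul_cancel]
        have := orderOf_dvd_of_pow_eq_one h2
        rw [hso] at this
        omega
      intro r hr
      exact (mul_inv_eq_iff_eq_mul.mp (congrArg Subtype.val (hfix ⟨r, hr⟩) : y * r * y⁻¹ = r)).symm
    have hb := Nat.gcd_eq_gcd_ab (3 ^ v) u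
    rw [(Nat.Coprime.pow_left v ((Nat.Prime.coprime_iff_not_dvd Nat.prime_three).mpr hu))] at hb
    rw [show x = x ^ ((1 : ℕ) : ℤ) by simp, hb, zpow_add, zpow_mul, zpow_mul, zpow_natCast, zpow_natCast]
    exact mul_mem (zpow_mem h3' _) (zpow_mem h3part _)
  have hcompl := MonoidHom.ker_transferSylow_isComplement' R hbur
  set M3 := (MonoidHom.transferSylow R hbur).ker with hM3
  have hM3c : Nat.card M3 * Nat.card (R : Subgroup K) = Nat.card K := hcompl.card_mul_card
  have hM33 : ¬ 3 ∣ Nat.card M3 := by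
    intro h
    refine R.not_dvd_index ?_
    have := (R : Subgroup K).card_mul_index
    rw [← hM3c, mul_comm (Nat.card M3)] at this
    rwa [Nat.eq_of_mul_eq_mul_left Nat.card_pos this]
  -- the normal 2-complement of `M3`
  obtain ⟨P2, O', hO', hOc⟩ : Cfsg.HasNormalPComplement 2 M3 := by
    refine Fusion.hasNormalPComplement_of_frobenius fun D hD x hx hxo => ?_
    have hD' : IsPGroup 2 (D.map M3.subtype) := hD.map _
    have hx' : (x : K) ∈ Subgroup.normalizer ((D.map M3.subtype : Subgroup K) : Set K) :=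
      Subgroup.le_normalizer_map M3.subtype ⟨x, hx, rfl⟩
    have hxo' : Odd (orderOf (x : K)) := by rw [Subgroup.orderOf_coe]; exact Nat.coprime_two_right.mp hxo
    have h1 : ∀ y ∈ D.map M3.subtype, (x : K) * y * (x : K)⁻¹ = y := by
      rcases odd_action hR hD' hx' hxo' with h | ⟨-, h, -⟩
      · exact h
      · have hmem := hcentr h
        have h3x : ¬ 3 ∣ orderOf (x : K) := fun hd =>
          hM33 (hd.trans (Subgroup.orderOf_dvd_natCard _ x.2))
        obtain ⟨m, hm⟩ := exists_pow_eq_self_of_coprime (x := (x : K)) (n := 3)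
          ((Nat.Prime.coprime_iff_not_dvd Nat.prime_three).mpr h3x)
        intro y hy
        have := pow_mem hmem m
        rw [hm] at this
        exact mul_inv_eq_iff_eq_mul.mpr (this y hy).symm
    intro y hy
    exact Subtype.ext (mul_inv_eq_iff_eq_mul.mp (h1 y ⟨y, hy, rfl⟩)).symm
  set O := O'.map M3.subtype with hO
  obtain ⟨v2, hv2⟩ := IsPGroup.iff_card.mp P2.2
  have hO2 : ¬ 2 ∣ Nat.card O' := by
    intro h
    refine P2.not_dvd_index ?_
    rwa [hOc.index_eq_card]
  have hOchar : O'.Characteristic := by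
    refine ⟨fun φ => ?_⟩
    ext x
    have key : ∀ y : M3, y ∈ O' ↔ (orderOf y).Coprime 2 := by
      intro y
      refine ⟨fun hy => ?_, fun hy => ?_⟩
      · exact ((Nat.prime_two.coprime_iff_not_dvd.mpr fun h => hO2
          (h.trans (Subgroup.orderOf_dvd_natCard _ hy)))).symm
      · haveI := hO'
        rw [← QuotientGroup.eq_one_iff, ← orderOf_eq_one_iff]
        refine Nat.eq_one_of_dvd_coprimes (Nat.Coprime.pow_right v2 hy) (orderOf_map_dvd (QuotientGroup.mk' O') y) ?_
        rw [← hv2, ← hOc.symm.index_eq_card, Subgroup.index_eq_card]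
        exact orderOf_dvd_natCard _
    rw [Subgroup.mem_comap, key, key, MulEquiv.coe_toMonoidHom, MulEquiv.orderOf_eq]
  haveI := hOchar
  haveI : O.Normal := by rw [hO]; exact ConjAct.normal_of_characteristic_of_normal
  have hOcard : Nat.card O = Nat.card O' := Subgroup.card_map_of_injective M3.subtype_injective
  have hK : Nat.card K = Nat.card O * 2 ^ v2 * Nat.card (R : Subgroup K) := by
    rw [← hM3c, ← hOc.card_mul_card, hv2, hOcard]
  obtain ⟨mR, hmR⟩ := IsPGroup.iff_card.mp R.2
  rw [hmR] at hK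
  have hO3 : ¬ 3 ∣ Nat.card O := fun h => hM33 (h.trans (by rw [← hOc.card_mul_card, hOcard]; exact dvd_mul_right _ _))
  -- Frattini
  set D := (P2 : Subgroup M3).map M3.subtype with hD
  have hDc : Nat.card D = 2 ^ v2 := by rw [hD, Subgroup.card_map_of_injective M3.subtype_injective, hv2]
  have hDp : IsPGroup 2 D := IsPGroup.of_card hDc
  have hfrat : Subgroup.normalizer (D : Set K) ⊔ M3 = ⊤ := Sylow.normalizer_sup_eq_top P2
  have hNcard : 3 ^ mR ∣ Nat.card (Subgroup.normalizer (D : Set K)) := by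
    have h1 : Nat.card ↥(Subgroup.normalizer (D : Set K) ⊔ M3) ∣
        Nat.card (Subgroup.normalizer (D : Set K)) * Nat.card M3 := by
      rw [← Subgroup.card_mul_index (M3.subgroupOf (Subgroup.normalizer (D : Set K) ⊔ M3))]
      rw [Nat.card_congr (Subgroup.subgroupOfEquivOfLe (le_sup_right : M3 ≤ Subgroup.normalizer (D : Set K) ⊔ M3)).toEquiv,
        mul_comm]
      refine Nat.mul_dvd_mul_right ?_ _
      rw [← Subgroup.relIndex, Subgroup.relIndex_sup_right]
      exact Subgroup.relIndex_dvd_card _ _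
    rw [hfrat, Subgroup.card_top, ← hM3c, hmR] at h1
    exact (Nat.mul_dvd_mul_iff_left Nat.card_pos).mp (h1.trans (mul_comm _ _).dvd)
  obtain ⟨R', hR'c, hR'N⟩ : ∃ R' : Subgroup K, Nat.card R' = 3 ^ mR ∧ R' ≤ Subgroup.normalizer (D : Set K) := by
    obtain ⟨W, hW⟩ := Sylow.exists_subgroup_card_pow_prime 3 hNcard
    exact ⟨W.map (Subgroup.subtype _), by rw [Subgroup.card_map_of_injective (Subgroup.subtype_injective _), hW],
      Subgroup.map_subtype_le W⟩
  haveI hR'cyc : IsCyclic R' := hcyc 3 Nat.prime_three (by norm_num) R' (IsPGroup.of_card hR'c)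
  have hR'odd : ∀ x ∈ R', Odd (orderOf x) := fun x hx => by
    refine (Odd.pow (show Odd 3 by decide) (n := mR)).of_dvd_nat ?_
    rw [← hR'c]
    exact Subgroup.orderOf_dvd_natCard _ hx
  have hv3 : v2 = 3 := by
    by_contra hv
    have hall : ∀ x ∈ R', x ∈ Subgroup.centralizer (D : Set K) := by
      intro x hx
      rcases odd_action hR hDp (hR'N hx) (hR'odd x hx) with h | ⟨h8, -⟩
      · exact hcentr h
      · rw [hDc] at h8
        exact absurd (Nat.pow_right_injective le_rfl (h8.trans (show 8 = 2 ^ 3 by norm_num))) hv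
    set X := O ⊔ R' with hX
    have hnorm : X.Normal := by
      rw [← Subgroup.normalizer_eq_top_iff, eq_top_iff]
      have hgen : O ⊔ R' ⊔ D = ⊤ := by
        refine Subgroup.eq_top_of_le_card _ (Nat.le_of_dvd Nat.card_pos ?_)
        rw [hK]
        refine Nat.Coprime.mul_dvd_of_dvd_of_dvd ?_ (Nat.Coprime.mul_dvd_of_dvd_of_dvd ?_ ?_ ?_) ?_
        · exact Nat.Coprime.mul_left (Nat.Coprime.pow_right _ (Nat.prime_three.coprime_iff_not_dvd.mpr hO3).symm)
            (Nat.Coprime.pow v2 mR (by norm_num))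
        · exact Nat.Coprime.pow_right _ (Nat.prime_two.coprime_iff_not_dvd.mpr (hOcard ▸ hO2)).symm
        · exact Subgroup.card_dvd_of_le (le_sup_left.trans le_sup_left)
        · exact hDc ▸ Subgroup.card_dvd_of_le le_sup_right
        · exact hR'c ▸ Subgroup.card_dvd_of_le (le_sup_right.trans le_sup_left)
      rw [← hgen]
      refine sup_le (sup_le (le_sup_left.trans Subgroup.le_normalizer) (le_sup_right.trans Subgroup.le_normalizer)) ?_
      intro d hd
      rw [Subgroup.mem_normalizer_iff]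
      have hmaps : ∀ d ∈ D, ∀ y ∈ X, d * y * d⁻¹ ∈ X := by
        intro d hd y hy
        have : X ≤ X.comap (MulAut.conj d).toMonoidHom := sup_le
          (fun o ho => Subgroup.mem_sup_left (Subgroup.Normal.conj_mem inferInstance o ho d))
          (fun r hr => by
            show d * r * d⁻¹ ∈ X
            rw [mul_inv_eq_iff_eq_mul.mpr (hall r hr d hd)]
            exact Subgroup.mem_sup_right hr)
        exact this hy
      exact fun y => ⟨hmaps d hd y, fun h => by simpa [mul_assoc] using hmaps d⁻¹ (inv_mem hd) _ h⟩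
    have hXodd : (Nat.card X).Coprime 2 := by
      have h1 : (Nat.card O).Coprime 2 := (Nat.prime_two.coprime_iff_not_dvd.mpr (hOcard ▸ hO2)).symm
      have h2 : (Nat.card R').Coprime 2 := hR'c ▸ Nat.Coprime.pow_left mR (by norm_num)
      rw [hX, sup_comm]
      exact PBasic.coprime_card_sup_of_normal R' O h2 h1
    have hXd : Nat.card O * 3 ^ mR ∣ Nat.card X := Nat.Coprime.mul_dvd_of_dvd_of_dvd
      (Nat.Coprime.pow_right _ (Nat.prime_three.coprime_iff_not_dvd.mpr hO3).symm)
      (Subgroup.card_dvd_of_le le_sup_left) (hR'c ▸ Subgroup.card_dvd_of_le le_sup_right)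
    have hidx : X.index ∣ 2 ^ v2 := by
      obtain ⟨c, hc⟩ := hXd
      have h := X.card_mul_index
      rw [hc, hK] at h
      exact ⟨c, Nat.eq_of_mul_eq_mul_left (Nat.mul_pos (Nat.card_pos (α := O)) (pow_pos (by norm_num : 0 < 3) mR))
        (by linarith)⟩
    obtain ⟨n, -, hn⟩ := (Nat.dvd_prime_pow Nat.prime_two).mp hidx
    have h0 := hno2 X hnorm n hn
    rw [h0, pow_zero, Subgroup.index_eq_one] at hn
    rw [hn, Subgroup.card_top] at hXodd
    exact absurd ((dvd_mul_right 2 2).trans h4) fun hd => by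
      have := Nat.eq_one_of_dvd_coprimes hXodd hd dvd_rfl
      omega
  -- `D` is quaternion of order eight and Sylow
  subst hv3
  have hfact2 : ∀ E : Subgroup K, IsPGroup 2 E → Nat.card E ∣ 8 := by
    intro E hE
    obtain ⟨n, hn⟩ := IsPGroup.iff_card.mp hE
    have h1 := E.card_subgroup_dvd_card
    rw [hn, hK] at h1
    rw [hn]
    refine Nat.Coprime.dvd_of_dvd_mul_left (m := Nat.card O) ?_ (Nat.Coprime.dvd_of_dvd_mul_right ?_ h1)
    · exact Nat.Coprime.pow_left n (Nat.prime_two.coprime_iff_not_dvd.mpr (hOcard ▸ hO2))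
    · exact Nat.Coprime.pow n mR (by norm_num)
  let S : Sylow 2 K :=
    { toSubgroup := D
      isPGroup' := hDp
      is_maximal' := fun {E} hE hle => (Subgroup.eq_of_le_of_card_ge hle
        (by rw [hDc]; exact Nat.le_of_dvd (by norm_num) (hfact2 E hE))).symm }
  have hconjS : ∀ E : Subgroup K, Nat.card E = 8 → ∃ c : K, ∀ x ∈ D, c * x * c⁻¹ ∈ E := by
    intro E hE
    let S' : Sylow 2 K :=
      { toSubgroup := E
        isPGroup' := IsPGroup.of_card (n := 3) hE
        is_maximal' := fun {F} hF hle => (Subgroup.eq_of_le_of_card_ge hle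
          (by rw [hE]; exact Nat.le_of_dvd (by norm_num) (hfact2 F hF))).symm }
    obtain ⟨c, hc⟩ := MulAction.exists_smul_eq K S S'
    refine ⟨c, fun x hx => ?_⟩
    show c * x * c⁻¹ ∈ (S' : Subgroup K)
    rw [← hc, Sylow.coe_subgroup_smul]
    exact Subgroup.mem_pointwise_smul_iff_inv_smul_mem.mpr (by
      show (MulAut.conj c)⁻¹ • (c * x * c⁻¹) ∈ D
      simpa [MulAut.smul_def, mul_assoc] using hx)
  obtain ⟨c0, hc0⟩ := hconjS D0 hD8
  have hconjD : ∀ x ∈ D0, c0⁻¹ * x * c0 ∈ D := by
    have heq : D.map (MulAut.conj c0).toMonoidHom = D0 := Subgroup.eq_of_le_of_card_ge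
      (by rintro _ ⟨x, hx, rfl⟩; exact hc0 x hx)
      (by rw [Subgroup.card_map_of_injective (MulAut.conj c0).injective, hDc, hD8]; norm_num)
    intro x hx
    obtain ⟨y, hy, rfl⟩ := heq.symm ▸ hx
    simpa [mul_assoc] using hy
  set C := Subgroup.centralizer (D : Set K) with hC
  -- the bound
  obtain ⟨r, hro, hr, hrd⟩ := hbound (c0⁻¹ * i * c0) (c0⁻¹ * j * c0)
    (by rw [show c0⁻¹ * i * c0 = MulAut.conj c0⁻¹ i by simp, MulEquiv.orderOf_eq, hi])
    (by rw [show c0⁻¹ * j * c0 = MulAut.conj c0⁻¹ j by simp, MulEquiv.orderOf_eq, hj])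
    (by rw [show c0⁻¹ * i * c0 * (c0⁻¹ * i * c0) = c0⁻¹ * (i * i) * c0 by group, hii]; group)
    (by rw [show c0⁻¹ * j * c0 * (c0⁻¹ * i * c0) * (c0⁻¹ * j * c0)⁻¹ = c0⁻¹ * (j * i * j⁻¹) * c0 by group, hij]
        group)
    C fun x hx => ⟨(hx _ (hconjD i hiD)).symm, (hx _ (hconjD j hjD)).symm⟩
  have hC2 : 2 ∣ Nat.card C := by
    set z := c0⁻¹ * (i * i) * c0 with hz
    have hzo : orderOf z = 2 := by
      rw [hz, show c0⁻¹ * (i * i) * c0 = MulAut.conj c0⁻¹ (i * i) by simp, MulEquiv.orderOf_eq, ← pow_two,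
        orderOf_pow_of_dvd two_ne_zero (by rw [hi]; norm_num), hi]
    rw [← hzo]
    refine Subgroup.orderOf_dvd_natCard _ fun x hx => ?_
    have hzD : z ∈ D := hconjD _ (mul_mem hiD hiD)
    exact (mul_inv_eq_iff_eq_mul.mp (hR.unique_invol hDp (mul_mem (mul_mem hx hzD) (inv_mem hx)) hzD
      (by rw [← MulAut.conj_apply, MulEquiv.orderOf_eq]; exact hzo) hzo :))
  have hC3 : 3 ^ (mR - 1) ∣ Nat.card C := by
    obtain ⟨γ, hγ⟩ := IsCyclic.exists_ofOrder_eq_natCard (α := R')
    rw [hR'c] at hγ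
    have hmem : (γ : K) ^ 3 ∈ C := by
      rcases odd_action hR hDp (hR'N γ.2) (hR'odd _ γ.2) with h | ⟨-, h, -⟩
      · exact pow_mem (hcentr h) 3
      · exact hcentr h
    refine dvd_trans ?_ (Subgroup.orderOf_dvd_natCard _ hmem)
    rw [orderOf_pow, Subgroup.orderOf_coe, hγ]
    rcases mR with _ | mR
    · simp
    · rw [Nat.gcd_eq_right (dvd_pow_self 3 (Nat.succ_ne_zero mR)), pow_succ,
        Nat.mul_div_cancel _ (by norm_num), Nat.add_sub_cancel]
  have hCO : Nat.card O ∣ Nat.card C := by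
    rw [← Nat.factorization_prime_le_iff_dvd Nat.card_pos.ne' Nat.card_pos.ne']
    intro r hr
    by_cases hrO : r ∣ Nat.card O
    swap
    · rw [Nat.factorization_eq_zero_of_not_dvd hrO]; exact Nat.zero_le _
    haveI : Fact r.Prime := ⟨hr⟩
    have hr2 : r ≠ 2 := fun e => hO2 (hOcard ▸ e ▸ hrO)
    obtain ⟨W⟩ : Nonempty (Sylow r O) := inferInstance
    set Rr := (W : Subgroup O).map O.subtype with hRr
    haveI : IsCyclic Rr := hcyc r hr hr2 Rr (W.2.map _)
    have hfr : Subgroup.normalizer (Rr : Set K) ⊔ O = ⊤ := Sylow.normalizer_sup_eq_top W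
    set Cr := Subgroup.centralizer (Rr : Set K) with hCr
    set L := Cr ⊔ O with hLdef
    haveI hLn : L.Normal := by
      rw [← Subgroup.normalizer_eq_top_iff, eq_top_iff, ← hfr]
      refine sup_le (fun n hn => ?_) (le_sup_right.trans Subgroup.le_normalizer)
      refine Subgroup.mem_normalizer_fintype ?_
      intro y hy
      have : L ≤ L.comap (MulAut.conj n).toMonoidHom := sup_le
        (fun c hc => Subgroup.mem_sup_left (fun w hw => by
          show w * (n * c * n⁻¹) = n * c * n⁻¹ * w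
          have hw' : n⁻¹ * w * n ∈ Rr := by
            simpa using (Subgroup.mem_normalizer_iff.mp (inv_mem hn) w).mp hw
          calc w * (n * c * n⁻¹) = n * ((n⁻¹ * w * n) * c) * n⁻¹ := by group
            _ = n * (c * (n⁻¹ * w * n)) * n⁻¹ := by rw [hc _ hw']
            _ = n * c * n⁻¹ * w := by group))
        (fun o ho => Subgroup.mem_sup_right (Subgroup.Normal.conj_mem inferInstance o ho n))
      exact this hy
    have hab : ∀ x y : K, x * y * x⁻¹ * y⁻¹ ∈ L := by
      intro x y
      obtain ⟨n, hn, o, ho, rfl⟩ := Subgroup.mem_sup_of_normal_right.mp (hfr.symm ▸ Subgroup.mem_top x :)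
      obtain ⟨n', hn', o', ho', rfl⟩ := Subgroup.mem_sup_of_normal_right.mp (hfr.symm ▸ Subgroup.mem_top y :)
      rw [← QuotientGroup.eq_one_iff]
      have hoL : ∀ o ∈ O, ((o : K) : K ⧸ L) = 1 := fun o ho =>
        (QuotientGroup.eq_one_iff o).mpr (Subgroup.mem_sup_right ho)
      have hcomm : n * n' * n⁻¹ * n'⁻¹ ∈ Cr := by
        intro w hw
        obtain ⟨γ, hγ⟩ := IsCyclic.exists_generator (α := Rr)
        have hact : ∀ m ∈ Subgroup.normalizer (Rr : Set K), ∃ e : ℤ, ∀ w ∈ Rr, m * w * m⁻¹ = w ^ e := by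
          intro m hm
          obtain ⟨e, he⟩ := Subgroup.mem_zpowers_iff.mp (hγ ⟨m * γ * m⁻¹, (Subgroup.mem_normalizer_iff.mp hm _).mp γ.2⟩)
          refine ⟨e, fun w hw => ?_⟩
          obtain ⟨f, hf⟩ := Subgroup.mem_zpowers_iff.mp (hγ ⟨w, hw⟩)
          have he' : (γ : K) ^ e = m * γ * m⁻¹ := by
            simpa using congrArg Subtype.val he
          have hf' : (γ : K) ^ f = w := by simpa using congrArg Subtype.val hf
          rw [← hf', ← conj_zpow, ← he', ← zpow_mul, ← zpow_mul, mul_comm]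
        obtain ⟨e, he⟩ := hact n hn
        obtain ⟨e', he'⟩ := hact n' hn'
        -- the actions of `n` and `n'` commute
        have hboth : ∀ u ∈ Rr, n * n' * u * (n * n')⁻¹ = n' * n * u * (n' * n)⁻¹ := by
          intro u hu
          rw [show n * n' * u * (n * n')⁻¹ = n * (n' * u * n'⁻¹) * n⁻¹ by group,
            show n' * n * u * (n' * n)⁻¹ = n' * (n * u * n⁻¹) * n'⁻¹ by group,
            he' u hu, he u hu, he _ (zpow_mem hu _), he' _ (zpow_mem hu _), ← zpow_mul, ← zpow_mul, mul_comm]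
        set u := (n' * n)⁻¹ * w * (n' * n) with hu
        have huR : u ∈ Rr := by
          simpa [hu] using (Subgroup.mem_normalizer_iff.mp (inv_mem (mul_mem hn' hn)) w).mp hw
        have h1 := hboth u huR
        rw [show n' * n * u * (n' * n)⁻¹ = w by rw [hu]; group] at h1
        calc w * (n * n' * n⁻¹ * n'⁻¹) = (n * n' * u * (n * n')⁻¹) * (n * n' * n⁻¹ * n'⁻¹) := by rw [h1]
          _ = n * n' * n⁻¹ * n'⁻¹ * w := by rw [hu]; group
      have hc1 : ((n * n' * n⁻¹ * n'⁻¹ : K) : K ⧸ L) = 1 :=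
        (QuotientGroup.eq_one_iff _).mpr (Subgroup.mem_sup_left hcomm)
      simp only [QuotientGroup.mk_mul, QuotientGroup.mk_inv, hoL o ho, hoL o' ho', mul_one] at hc1 ⊢
      exact hc1
    have hodd := odd_index_of_abelian (fun M => hcon M) L hab
    have h8L : 8 ∣ Nat.card L := by
      refine Nat.Coprime.dvd_of_dvd_mul_right (n := L.index) ?_ ?_
      · exact Nat.Coprime.pow_left 3 (Nat.prime_two.coprime_iff_not_dvd.mpr hodd)
      · rw [L.card_mul_index, hK]
        exact dvd_mul_of_dvd_left (dvd_mul_left _ _) _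
    have h8C : 8 ∣ Nat.card Cr := by
      refine Nat.Coprime.dvd_of_dvd_mul_right (n := Nat.card O)
        (Nat.Coprime.pow_left 3 (Nat.prime_two.coprime_iff_not_dvd.mpr (hOcard ▸ hO2))) (h8L.trans ?_)
      rw [← Subgroup.card_mul_index (O.subgroupOf L),
        Nat.card_congr (Subgroup.subgroupOfEquivOfLe (le_sup_right : O ≤ L)).toEquiv, mul_comm (Nat.card Cr)]
      refine Nat.mul_dvd_mul_left _ ?_
      rw [← Subgroup.relIndex, hLdef, Subgroup.relIndex_sup_right]
      exact Subgroup.relIndex_dvd_card _ _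
    obtain ⟨E', hE'⟩ := Sylow.exists_subgroup_card_pow_prime 2 (G := Cr) (n := 3) h8C
    obtain ⟨c, hc⟩ := hconjS (E'.map Cr.subtype)
      (by rw [Subgroup.card_map_of_injective Cr.subtype_injective, hE']; norm_num)
    have hle : Rr.map (MulAut.conj c⁻¹).toMonoidHom ≤ C := by
      rintro _ ⟨w, hw, rfl⟩ d hd
      show d * (MulAut.conj c⁻¹ w) = MulAut.conj c⁻¹ w * d
      obtain ⟨e, -, he⟩ := hc d hd
      have hcomm : w * (c * d * c⁻¹) = c * d * c⁻¹ * w := by
        have := e.2 w hw
        rwa [show ((e : Cr) : K) = c * d * c⁻¹ from he] at this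
      simp only [MulAut.conj_apply, inv_inv]
      calc d * (c⁻¹ * w * c) = c⁻¹ * (c * d * c⁻¹ * w) * c := by group
        _ = c⁻¹ * w * c * d := by rw [← hcomm]; group
    have hd := Subgroup.card_dvd_of_le hle
    rw [Subgroup.card_map_of_injective (MulAut.conj c⁻¹).injective, hRr,
      Subgroup.card_map_of_injective O.subtype_injective, W.card_eq_multiplicity] at hd
    exact (Nat.Prime.pow_dvd_iff_le_factorization hr Nat.card_pos.ne').mp hd
  have hmR2 : 2 ≤ mR := by
    have h92 : 3 ^ 2 ∣ Nat.card O * 2 ^ 3 * 3 ^ mR := hK ▸ h9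
    have hd : 3 ^ 2 ∣ 3 ^ mR := by
      refine Nat.Coprime.dvd_of_dvd_mul_left (Nat.Coprime.pow_left 2 ?_) h92
      exact Nat.Coprime.mul_right (Nat.prime_three.coprime_iff_not_dvd.mpr hO3) (by norm_num)
    exact (Nat.pow_dvd_pow_iff_le_right (by norm_num : 1 < 3)).mp hd
  have hprod : 2 * 3 ^ (mR - 1) * Nat.card O ∣ Nat.card C := by
    refine Nat.Coprime.mul_dvd_of_dvd_of_dvd ?_ (Nat.Coprime.mul_dvd_of_dvd_of_dvd
      (Nat.Coprime.pow_right _ (by norm_num)) hC2 hC3) hCO
    exact Nat.Coprime.mul_left (Nat.prime_two.coprime_iff_not_dvd.mpr (hOcard ▸ hO2))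
      (Nat.Coprime.pow_left _ (Nat.prime_three.coprime_iff_not_dvd.mpr hO3))
  have h12 : Nat.card K ∣ 12 * (r - 1) := by
    refine dvd_trans ?_ (Nat.mul_dvd_mul_left 12 (hprod.trans hrd))
    rw [hK]
    refine dvd_of_eq ?_
    obtain ⟨k, rfl⟩ : ∃ k, mR = k + 1 := ⟨mR - 1, by omega⟩
    rw [Nat.add_sub_cancel, pow_succ]
    ring
  have hKpos := Nat.card_pos (α := K)
  obtain ⟨q, hq⟩ := hro
  subst hq
  rw [Nat.add_sub_cancel] at h12
  have hq0 : 0 < q := by
    rcases Nat.eq_zero_or_pos q with h | h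
    · subst h; omega
    · exact h
  have hcard : Nat.card K = 4 * q * (q + 1) := by nlinarith
  have hle := Nat.le_of_dvd (by omega) h12
  rw [hcard] at hle h9
  have : q ≤ 5 := by
    have : q + 1 ≤ 6 := Nat.le_of_mul_le_mul_left (by linarith) (by omega : 0 < 4 * q)
    omega
  interval_cases q <;> omega

end Cfsg.Agent.ZassTwoIdx
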