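import Cfsg.Agent.Lib.ZassAbelian.Main
import Cfsg.Agent.Lib.ZassAbelian.TwoIndex
import Cfsg.Agent.S0728
import Mathlib.FieldTheory.Finite.Basic

/-!
# The sharply triply transitive case is not simple
-/

set_option autoImplicit false
set_option linter.style.haveILetI false
set_option linter.unusedSectionVars false
set_option maxHeartbeats 800000

namespace Cfsg.Agent.ZassAb

open Cfsg.Agent.Zass MulAction

universe u v

variable {G : Type u} [Group G] [Finite G] {Ω : Type v} [MulAction G Ω] [Fintype Ω]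

namespace Ab

variable {a b : Ω} {H : Subgroup G} (A : Ab a b H)
include A

theorem exists_conj (heq : Nat.card (two (G := G) a b) = Nat.card H - 1) {u v : H} (hu : u ≠ 1) (hv : v ≠ 1) :
    ∃ k ∈ two (G := G) a b, k * (u : G) * k⁻¹ = v := by
  classical
  haveI : Fintype H := Fintype.ofFinite H
  let f : two (G := G) a b → {w : H // w ≠ 1} := fun k =>
    ⟨⟨(k : G) * u * (k : G)⁻¹, A.normal k (mem_two.mp k.2).1 u u.2⟩,
      fun e => hu (Subtype.ext (conj_eq_one_iff.mp (congrArg Subtype.val e)))⟩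
  have hinj : Function.Injective f := by
    intro k l hkl
    have h' : (k : G) * u * (k : G)⁻¹ = (l : G) * u * (l : G)⁻¹ :=
      congrArg (fun w : {w : H // w ≠ 1} => ((w.1 : H) : G)) hkl
    have h1 := A.eq_one_of_comm (mul_mem (inv_mem l.2) k.2) u.2 (fun e => hu (Subtype.ext e)) (by
      calc (l : G)⁻¹ * k * u = (l : G)⁻¹ * ((k : G) * u * (k : G)⁻¹) * k := by group
        _ = u * ((l : G)⁻¹ * k) := by rw [h']; group)
    exact Subtype.ext (inv_mul_eq_one.mp h1).symm
  obtain ⟨k, hk⟩ := ((Nat.bijective_iff_injective_and_card f).mpr ⟨hinj, by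
    rw [heq, Nat.card_eq_fintype_card (α := {w : H // w ≠ 1}), Fintype.card_subtype_compl,
      Fintype.card_subtype_eq, Nat.card_eq_fintype_card]⟩).2 ⟨v, hv⟩
  exact ⟨k, k.2, congrArg (fun w : {w : H // w ≠ 1} => ((w.1 : H) : G)) hk⟩

theorem rankOne : BrauerSuzuki.RankOne (two (G := G) a b) := by
  intro x y hx hy _
  obtain ⟨hx2, hx1⟩ := orderOf_two_iff.mp ((Subgroup.orderOf_coe x).trans hx)
  obtain ⟨hy2, hy1⟩ := orderOf_two_iff.mp ((Subgroup.orderOf_coe y).trans hy)
  exact Subtype.ext (A.invol_unique x.2 hx2 hx1 y.2 hy2 hy1)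

theorem quaternion_bound (heq : Nat.card (two (G := G) a b) = Nat.card H - 1)
    (hev : Even (Nat.card (two (G := G) a b))) (i j : two (G := G) a b) (hi : orderOf i = 4)
    (hii : i * i = j * j) (hji : j * i * j⁻¹ = i⁻¹)
    (C : Subgroup (two (G := G) a b)) (hC : ∀ x ∈ C, x * i = i * x ∧ x * j = j * x) :
    ∃ r : ℕ, Odd r ∧ Nat.card (two (G := G) a b) + 1 = r * r ∧ Nat.card C ∣ r - 1 := by
  classical
  have he2 := A.two_pos
  have hh : Nat.card H = Nat.card (two (G := G) a b) + 1 := by omega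
  have hodd : Odd (Nat.card H) := hh ▸ hev.add_one
  -- `H` has prime exponent
  obtain ⟨p, hp, hpd⟩ := Nat.exists_prime_and_dvd (by omega : Nat.card H ≠ 1)
  haveI : Fact p.Prime := ⟨hp⟩
  obtain ⟨u0, hu0⟩ := exists_prime_orderOf_dvd_card' (G := H) p hpd
  have hexp : ∀ u : H, u ^ p = 1 := by
    intro u
    rcases eq_or_ne u 1 with rfl | hu
    · exact one_pow p
    obtain ⟨k, -, hk⟩ := A.exists_conj heq (u := u0) (v := u)
      (fun e => hp.one_lt.ne (by rw [← hu0, e, orderOf_one])) hu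
    refine Subtype.ext ?_
    show (u : G) ^ p = 1
    rw [← hk, conj_pow, ← Subgroup.coe_pow, orderOf_dvd_iff_pow_eq_one.mp hu0.dvd, Subgroup.coe_one, mul_one,
      mul_inv_cancel]
  letI : CommGroup H := { (inferInstance : Group H) with mul_comm := fun u v => Subtype.ext (A.comm u u.2 v v.2) }
  let ρ : two (G := G) a b → H →* H := fun k =>
    { toFun := fun u => ⟨k * u * (k : G)⁻¹, A.normal k (mem_two.mp k.2).1 u u.2⟩
      map_one' := Subtype.ext (by simp)
      map_mul' := fun u v => Subtype.ext (by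
        show (k : G) * ((u : G) * v) * (k : G)⁻¹ = k * u * (k : G)⁻¹ * (k * v * (k : G)⁻¹); group) }
  have hmul : ∀ k l (u : H), ρ k (ρ l u) = ρ (k * l) u := fun k l u => Subtype.ext (by
    show (k : G) * ((l : G) * u * (l : G)⁻¹) * (k : G)⁻¹ =
      ((k * l : two (G := G) a b) : G) * u * ((k * l : two (G := G) a b) : G)⁻¹
    rw [Subgroup.coe_mul]; group)
  set z := i * i with hz
  have hz2 : orderOf z = 2 := by
    rw [hz, ← pow_two, orderOf_pow_of_dvd two_ne_zero (by rw [hi]; norm_num), hi]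
  have hzi : ∀ u, ρ z u = u⁻¹ := fun u => by
    obtain ⟨h1, h2⟩ := orderOf_two_iff.mp ((Subgroup.orderOf_coe z).trans hz2)
    exact Subtype.ext (A.conj_inv z.2 h1 h2 u.2)
  have hzmul : ∀ k u, ρ (z * k) u = (ρ k u)⁻¹ := fun k u => by rw [← hmul, hzi]
  have hi4 : z * z = 1 := by rw [← pow_two, ← hz2, pow_orderOf_eq_one]
  have hiinv : i⁻¹ = z * i := by
    refine inv_eq_of_mul_eq_one_right ?_
    rw [← mul_assoc, show i * z = z * i by rw [hz, mul_assoc], mul_assoc, ← hz, hi4]
  have hjirel : j * i = z * (i * j) := by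
    rw [← mul_assoc, ← hiinv, ← hji, inv_mul_cancel_right]
  have hzc : i * z = z * i := by rw [hz, mul_assoc]
  set k := i * j with hk
  have hik : i * k = z * j := by rw [hk, ← mul_assoc]
  have hki : k * i = j := by
    rw [hk, mul_assoc, hjirel, ← mul_assoc i z, hzc, mul_assoc z i, hk, ← mul_assoc i i, ← hz, ← mul_assoc z,
      hi4, one_mul]
  have hkj : k * j = z * i := by rw [hk, mul_assoc, ← hii, hzc]
  have hjk : j * k = i := by
    calc j * k = j * i * j := by rw [hk, mul_assoc]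
      _ = z * (k * j) := by rw [hjirel, mul_assoc]
      _ = i := by rw [hkj, ← mul_assoc, hi4, one_mul]
  -- the involutory endomorphism
  obtain ⟨α', β', hαβ⟩ := ZMod.sq_add_sq p (-1)
  set α := α'.val with hα
  set β := β'.val with hβ
  have hdiv : p ∣ α * α + β * β + 1 := by
    rw [← ZMod.natCast_eq_zero_iff, Nat.cast_add, Nat.cast_add, Nat.cast_mul, Nat.cast_mul, hα, hβ,
      ZMod.natCast_zmod_val, ZMod.natCast_zmod_val, Nat.cast_one, ← pow_two, ← pow_two, hαβ, neg_add_cancel]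
  let X : H →* H :=
    { toFun := fun u => ρ i u ^ α * ρ j u ^ β
      map_one' := by simp
      map_mul' := fun u v => by rw [map_mul, map_mul, mul_pow, mul_pow, mul_mul_mul_comm] }
  have hX : ∀ u, X u = ρ i u ^ α * ρ j u ^ β := fun _ => rfl
  have hXX : ∀ u, X (X u) = u := by
    intro u
    rw [hX, hX u, map_mul, map_mul, map_pow, map_pow, map_pow, map_pow, hmul, hmul, hmul, hmul,
      ← hz, ← hii, hzi, hjirel, hzmul, mul_pow, mul_pow, ← pow_mul, ← pow_mul, ← pow_mul, ← pow_mul]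
    obtain ⟨c, hc⟩ := hdiv
    have h1 : u ^ (α * α) * u ^ (β * β) * u = 1 := by
      rw [← pow_add, ← pow_succ, hc, pow_mul, hexp, one_pow]
    rw [mul_comm β α, inv_pow, inv_pow, inv_pow, ← hk,
      show (u ^ (α * α))⁻¹ * ρ k u ^ (α * β) * ((ρ k u ^ (α * β))⁻¹ * (u ^ (β * β))⁻¹) =
        (u ^ (β * β) * u ^ (α * α))⁻¹ by rw [mul_inv_rev]; group, mul_comm (u ^ (β * β))]
    exact (eq_inv_of_mul_eq_one_right h1).symm
  have hXk : ∀ u, X (ρ k u) = (ρ k (X u))⁻¹ := by
    intro u
    rw [hX, hX, map_mul, map_pow, map_pow, hmul, hmul, hmul, hmul, hik, hki, hjk, hkj, hzmul, hzmul,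
      inv_pow, inv_pow, mul_inv, inv_inv]
  let Hp : Subgroup H := MonoidHom.eqLocus X (MonoidHom.id H)
  let Hm : Subgroup H := MonoidHom.eqLocus X (MonoidHom.id H)⁻¹
  have hHp : ∀ u, u ∈ Hp ↔ X u = u := fun u => Iff.rfl
  have hHm : ∀ u, u ∈ Hm ↔ X u = u⁻¹ := fun u => Iff.rfl
  have hinjk : Function.Injective (ρ k) := fun u v h => Subtype.ext (by
    simpa [ρ] using congrArg Subtype.val h)
  have hle1 : Nat.card Hp ≤ Nat.card Hm :=
    Nat.card_le_card_of_injective (fun u : Hp => (⟨ρ k u, (hHm _).mpr (by rw [hXk, (hHp _).mp u.2])⟩ : Hm))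
      fun u v h => Subtype.ext (hinjk (congrArg Subtype.val h))
  have hle2 : Nat.card Hm ≤ Nat.card Hp :=
    Nat.card_le_card_of_injective (fun u : Hm => (⟨ρ k u, (hHp _).mpr (by
      rw [hXk, (hHm _).mp u.2, map_inv, inv_inv])⟩ : Hp))
      fun u v h => Subtype.ext (hinjk (congrArg Subtype.val h))
  obtain ⟨n2, hn2, hn2'⟩ := Zass.eq_of_sq_eq (M := H) hodd 1
  clear hn2
  have hsq1 : ∀ u : H, u * u = 1 → u = 1 := fun u h => by rw [hn2' u, h, one_pow]
  have hbij : Function.Bijective (fun q : Hp × Hm => (q.1 : H) * q.2) := by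
    refine ⟨fun q q' h => ?_, fun u => ?_⟩
    · have h' : (q.1 : H) * q.2 = q'.1 * q'.2 := h
      set w := (q'.1 : H)⁻¹ * q.1 with hw
      have hwp : w ∈ Hp := mul_mem (inv_mem q'.1.2) q.1.2
      have hweq : w = (q'.2 : H) * (q.2 : H)⁻¹ := by
        rw [eq_mul_inv_iff_mul_eq, hw, mul_assoc, h', inv_mul_cancel_left]
      have hwm : w ∈ Hm := hweq ▸ mul_mem q'.2.2 (inv_mem q.2.2)
      have hw1 : w = 1 := hsq1 w (mul_eq_one_iff_eq_inv.mpr (((hHp w).mp hwp).symm.trans ((hHm w).mp hwm)))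
      have h1 : (q.1 : H) = q'.1 := (inv_mul_eq_one.mp hw1).symm
      exact Prod.ext (Subtype.ext h1) (Subtype.ext (mul_left_cancel (a := (q'.1 : H)) (by rw [← h', h1])))
    · set y := u ^ n2 with hy
      have hyy : y * y = u := by rw [hy, ← mul_pow, ← hn2']
      refine ⟨(⟨y * X y, (hHp _).mpr (by rw [map_mul, hXX, mul_comm])⟩,
        ⟨y * (X y)⁻¹, (hHm _).mpr (by rw [map_mul, map_inv, hXX, mul_inv_rev, inv_inv])⟩), ?_⟩
      show y * X y * (y * (X y)⁻¹) = u
      rw [mul_mul_mul_comm, mul_inv_cancel, mul_one, hyy]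
  have hcard : Nat.card H = Nat.card Hp * Nat.card Hp := by
    rw [← Nat.card_eq_of_bijective _ hbij, Nat.card_prod]
    exact congrArg (Nat.card Hp * ·) (le_antisymm hle2 hle1)
  have hcard' : Nat.card (two (G := G) a b) + 1 = Nat.card Hp * Nat.card Hp := hh ▸ hcard
  refine ⟨Nat.card Hp, hodd.of_dvd_nat ⟨_, hcard⟩, hcard', ?_⟩
  haveI : Fintype Hp := Fintype.ofFinite Hp
  have hS : Nat.card {u : Hp // u ≠ 1} = Nat.card Hp - 1 := by
    rw [Nat.card_eq_fintype_card, Fintype.card_subtype_compl, Fintype.card_subtype_eq, Nat.card_eq_fintype_card]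
  have hXc : ∀ x ∈ C, ∀ u, X (ρ x u) = ρ x (X u) := fun x hx u => by
    rw [hX, hX, map_mul, map_pow, map_pow, hmul, hmul, hmul, hmul, (hC x hx).1, (hC x hx).2]
  letI : MulAction C {u : Hp // u ≠ 1} :=
    { smul := fun x u => ⟨⟨ρ x u.1, (hHp _).mpr (by rw [hXc x x.2, (hHp _).mp u.1.2])⟩, fun e => u.2 (Subtype.ext
        (Subtype.ext (conj_eq_one_iff.mp (congrArg (fun w : Hp => ((w : H) : G)) e))))⟩
      one_smul := fun u => Subtype.ext (Subtype.ext (Subtype.ext (by
        show (((1 : C) : two (G := G) a b) : G) * ((u.1 : H) : G) * (((1 : C) : two (G := G) a b) : G)⁻¹ = _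
        simp)))
      mul_smul := fun x y u => Subtype.ext (Subtype.ext (hmul x y u.1).symm) }
  rw [← hS]
  refine card_dvd_of_free fun x u hxu => Subtype.ext (Subtype.ext ?_)
  refine A.eq_one_of_comm x.1.2 (u.1 : H).2 (fun e => u.2 (Subtype.ext (Subtype.ext e))) ?_
  exact mul_inv_eq_iff_eq_mul.mp (congrArg (fun w : {u : Hp // u ≠ 1} => ((w.1 : H) : G)) hxu)

theorem sharp_index_two (heq : Nat.card (two (G := G) a b) = Nat.card H - 1)
    (h4 : 4 ∣ Nat.card (two (G := G) a b)) :
    ∃ M : Subgroup (two (G := G) a b), M.index = 2 := by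
  classical
  haveI := A.zg.1
  have he2 := A.two_pos
  have hh : Nat.card H = Nat.card (two (G := G) a b) + 1 := by omega
  have hev : Even (Nat.card (two (G := G) a b)) := even_iff_two_dvd.mpr ((dvd_mul_right 2 2).trans h4)
  refine ZassTwoIdx.exists_index_two A.rankOne h4 ?_ ?_ fun i j hi _ hii hji C hC =>
    A.quaternion_bound heq hev i j hi hii hji C hC
  · intro r hr hr2 R hR
    haveI : Fact r.Prime := ⟨hr⟩
    rcases eq_or_ne R ⊥ with rfl | hne
    · exact isCyclic_of_subsingleton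
    obtain ⟨n, hn⟩ := IsPGroup.iff_card.mp hR
    have hn0 : n ≠ 0 := fun h => hne (Subgroup.eq_bot_of_card_le R (by rw [hn, h, pow_zero]))
    obtain ⟨y, hy⟩ := exists_prime_orderOf_dvd_card' (G := R) r (hn ▸ dvd_pow_self r hn0)
    have hre : r ∣ Nat.card (two (G := G) a b) := (hn ▸ dvd_pow_self r hn0).trans R.card_subgroup_dvd_card
    have hrh : ¬ r ∣ Nat.card H := fun h => hr.not_dvd_one ((Nat.dvd_add_right hre).mp (hh ▸ h))
    have hc := (A.isCyclic_sub (r := r) hr2 hrh (R.map (two (G := G) a b).subtype) (hR.map _)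
      (Subgroup.map_subtype_le R) (y := ((y : two (G := G) a b) : G)) ⟨_, y.2, rfl⟩
      (by rw [Subgroup.orderOf_coe, Subgroup.orderOf_coe, hy])).1
    exact (R.equivMapOfInjective _ (two (G := G) a b).subtype_injective).isCyclic.mpr hc
  · intro B C hB hC
    obtain ⟨h3, hsharp⟩ := A.sharply heq
    let φ := MulAction.toPermHom G Ω
    have hφ : Function.Injective φ.rangeRestrict := fun g g' h =>
      MulAction.toPerm_injective (congrArg Subtype.val h)
    have h3' : IsMultiplyPretransitive φ.range Ω 3 := by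
      refine isMultiplyPretransitive_iff.mpr fun x y => ?_
      obtain ⟨g, hg⟩ := isMultiplyPretransitive_iff.mp h3 x y
      exact ⟨φ.rangeRestrict g, hg⟩
    have hsharp' : ∀ t : Fin 3 ↪ Ω, stabilizer φ.range t = ⊥ := fun t => by
      refine (Subgroup.eq_bot_iff_forall _).mpr fun g hg => ?_
      obtain ⟨g', rfl⟩ := φ.rangeRestrict_surjective g
      have : g' ∈ stabilizer G t := hg
      rw [hsharp t, Subgroup.mem_bot] at this
      rw [this, map_one]
    let toR : two (G := G) a b →* φ.range := φ.rangeRestrict.comp (two (G := G) a b).subtype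
    have hinj : Function.Injective toR := hφ.comp (two (G := G) a b).subtype_injective
    have hev2 : Even (Fintype.card Ω) := by
      rw [← A.card_H, hh]
      obtain ⟨c, hc⟩ := hev
      exact ⟨c + 1, by omega⟩
    have h6 : 6 ≤ Fintype.card Ω := by
      rw [← A.card_H, hh]
      have := Nat.le_of_dvd (by omega) h4
      omega
    have hmem : ∀ W : Subgroup (two (G := G) a b), W.map toR ≤ stabilizer φ.range a ⊓ stabilizer φ.range b := by
      rintro W _ ⟨w, -, rfl⟩
      exact ⟨(mem_two.mp w.2).1, (mem_two.mp w.2).2⟩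
    have h := S0728.result hev2 h6 φ.range h3' hsharp' A.ne (B.map toR) (C.map toR) (hmem B) (hmem C)
      (by rw [Subgroup.card_map_of_injective hinj, hB]) (by rw [Subgroup.card_map_of_injective hinj, hC])
    exact Subgroup.map_injective hinj h

end Ab

end Cfsg.Agent.ZassAb
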