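import Cfsg.Agent.Lib.ZassAbelian.Kernel
import Cfsg.Agent.Lib.ZassAbelian.Sharp
import Cfsg.Agent.Lib.Small.TransferHom

/-!
# Simple Zassenhaus groups with an even two-point stabiliser
-/

set_option autoImplicit false
set_option linter.style.haveILetI false
set_option linter.unusedSectionVars false
set_option maxHeartbeats 800000

namespace Cfsg.Agent.ZassAb

open Cfsg.Agent.Zass MulAction

universe u v

variable {G : Type u} [Group G] [Finite G] {Ω : Type v} [MulAction G Ω] [Fintype Ω]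

/-- The elements preserving an unordered pair. -/
def pairSub (a b : Ω) : Subgroup G where
  carrier := {g | (g • a = a ∧ g • b = b) ∨ (g • a = b ∧ g • b = a)}
  one_mem' := Or.inl ⟨one_smul _ _, one_smul _ _⟩
  mul_mem' := by
    rintro g g' (⟨h1, h2⟩ | ⟨h1, h2⟩) (⟨h3, h4⟩ | ⟨h3, h4⟩) <;>
      simp [mul_smul, h1, h2, h3, h4]
  inv_mem' := by
    rintro g (⟨h1, h2⟩ | ⟨h1, h2⟩)
    · exact Or.inl ⟨by rw [inv_smul_eq_iff, h1], by rw [inv_smul_eq_iff, h2]⟩
    · exact Or.inr ⟨by rw [inv_smul_eq_iff, h2], by rw [inv_smul_eq_iff, h1]⟩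

theorem mem_pairSub {a b : Ω} {g : G} :
    g ∈ pairSub (G := G) a b ↔ (g • a = a ∧ g • b = b) ∨ (g • a = b ∧ g • b = a) := Iff.rfl

/-- A simple group of order above two has no non-trivial homomorphism to the signs. -/
theorem sign_hom_trivial [IsSimpleGroup G] (h3 : 3 ≤ Nat.card G) (V : G →* ℤˣ) (g : G) : V g = 1 := by
  rcases IsSimpleGroup.eq_bot_or_eq_top_of_normal V.ker inferInstance with h | h
  · have := Nat.card_le_card_of_injective V ((MonoidHom.ker_eq_bot_iff V).mp h)
    rw [Nat.card_eq_fintype_card (α := ℤˣ), Fintype.card_units_int] at this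
    omega
  · exact MonoidHom.mem_ker.mp (h ▸ Subgroup.mem_top g)

theorem vec3_injective {x y w : Ω} (h1 : x ≠ y) (h2 : x ≠ w) (h3 : y ≠ w) :
    Function.Injective ![x, y, w] := fun i j h => by
  fin_cases i <;> fin_cases j <;> simp_all [eq_comm]

namespace Ab

variable {a b : Ω} {H : Subgroup G} (A : Ab a b H)
include A

theorem not_sharp [IsSimpleGroup G] (hev : Even (Nat.card (two (G := G) a b)))
    (heq : Nat.card (two (G := G) a b) = Nat.card H - 1) : False := by
  classical
  haveI := A.zg.1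
  haveI : Fact (Nat.Prime 2) := ⟨Nat.prime_two⟩
  have he2 := A.two_pos
  have hh : Nat.card H = Nat.card (two (G := G) a b) + 1 := by omega
  have hG3 : 3 ≤ Nat.card G := by
    rw [A.card_group]
    calc 3 ≤ (1 + 1) * (2 * 2) := by norm_num
      _ ≤ _ := Nat.mul_le_mul (by omega) (Nat.mul_le_mul (by omega) he2)
  haveI := Fintype.ofFinite (two (G := G) a b)
  obtain ⟨z, hz⟩ := exists_prime_orderOf_dvd_card' (G := two (G := G) a b) 2 hev.two_dvd
  obtain ⟨za, zb⟩ := mem_two.mp z.2
  obtain ⟨hz2, hz1⟩ := orderOf_two_iff.mp ((Subgroup.orderOf_coe z).trans hz)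
  by_cases h4 : 4 ∣ Nat.card (two (G := G) a b)
  swap
  · -- an odd permutation
    let φ : G →* ℤˣ := Equiv.Perm.sign.comp (MulAction.toPermHom G Ω)
    have h1 := sign_hom_trivial hG3 φ z
    set P := MulAction.toPerm (α := G) (β := Ω) (z : G) with hP
    have hP2 : P ^ 2 = 1 := by
      refine Equiv.ext fun c => ?_
      rw [pow_two, Equiv.Perm.mul_apply]
      show (z : G) • (z : G) • c = c
      rw [← mul_smul, hz2, one_smul]
    have hfix : Function.fixedPoints P = {a, b} := by
      ext c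
      refine ⟨fun hc => ?_, ?_⟩
      · by_contra hne
        simp only [Set.mem_insert_iff, Set.mem_singleton_iff, not_or] at hne
        exact hz1 (three A.zg A.ne (Ne.symm hne.2) (Ne.symm hne.1) za zb hc)
      · rintro (rfl | rfl)
        exacts [za, zb]
    have h2 : Equiv.Perm.sign P = 1 := h1
    rw [Equiv.Perm.sign_of_pow_two_eq_one hP2, ← Nat.card_eq_fintype_card (α := Function.fixedPoints P),
      hfix, Nat.card_coe_set_eq, Set.ncard_pair A.ne, ← A.card_H, hh,
      show Nat.card (two (G := G) a b) + 1 + 1 - 2 = Nat.card (two (G := G) a b) by omega] at h2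
    obtain ⟨c, hc⟩ := hev
    rw [hc, show c + c = c * 2 by ring, Nat.mul_div_cancel _ (by norm_num : 0 < 2), Odd.neg_one_pow] at h2
    · exact absurd h2 (by decide)
    · rcases Nat.even_or_odd c with ⟨d, hd⟩ | h
      · exact absurd ⟨d, by omega⟩ h4
      · exact h
  -- a swap with a third fixed point
  obtain ⟨h3t, -⟩ := A.sharply heq
  have hex : ∀ x y w x' y' w' : Ω, x ≠ y → x ≠ w → y ≠ w → x' ≠ y' → x' ≠ w' → y' ≠ w' →
      ∃ g : G, g • x = x' ∧ g • y = y' ∧ g • w = w' := by
    intro x y w x' y' w' h1 h2 h3 h4 h5 h6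
    let e1 : Fin 3 ↪ Ω := ⟨![x, y, w], vec3_injective h1 h2 h3⟩
    let e2 : Fin 3 ↪ Ω := ⟨![x', y', w'], vec3_injective h4 h5 h6⟩
    obtain ⟨g, hg⟩ := isMultiplyPretransitive_iff.mp h3t e1 e2
    exact ⟨g, congrArg (fun e : Fin 3 ↪ Ω => e 0) hg, congrArg (fun e : Fin 3 ↪ Ω => e 1) hg,
      congrArg (fun e : Fin 3 ↪ Ω => e 2) hg⟩
  obtain ⟨c, hca, hcb⟩ : ∃ c : Ω, c ≠ a ∧ c ≠ b := by
    by_contra hcon
    push Not at hcon
    have hsub : (Finset.univ : Finset Ω) ⊆ {a, b} := fun c _ => by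
      by_cases hc : c = a
      · simp [hc]
      · simp [hcon c hc]
    have := Finset.card_le_card hsub
    rw [Finset.card_univ, ← A.card_H, hh, Finset.card_pair A.ne] at this
    omega
  obtain ⟨t, ta, tb, tc⟩ := hex a b c b a c A.ne hca.symm hcb.symm A.ne.symm hcb.symm hca.symm
  have ht2 : t * t = 1 := three A.zg A.ne hcb.symm hca.symm (by rw [mul_smul, ta, tb])
    (by rw [mul_smul, tb, ta]) (by rw [mul_smul, tc, tc])
  have ht : Swap a b t := ⟨ta, tb, ht2⟩
  -- an invariant sign character of `(two (G := G) a b)`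
  obtain ⟨M, hM⟩ := A.sharp_index_two heq h4
  let χ : (two (G := G) a b) →* ℤˣ :=
    { toFun := fun k => if k ∈ M then 1 else -1
      map_one' := by simp [M.one_mem]
      map_mul' := fun k l => by
        have h := Subgroup.mul_mem_iff_of_index_two hM (a := k) (b := l)
        by_cases hk : k ∈ M <;> by_cases hl : l ∈ M <;> simp [hk, hl, h] }
  obtain ⟨φ0, hφ0, y0, hy0⟩ : ∃ φ0 : (two (G := G) a b) →* ℤˣ, (∀ k, φ0 (sig ht k) = φ0 k) ∧ ∃ y, φ0 y = -1 := by
    by_cases hinv : ∀ k, χ (sig ht k) = χ k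
    · refine ⟨χ, hinv, ?_⟩
      obtain ⟨y, hy⟩ : ∃ y, y ∉ M := by
        by_contra hcon
        push Not at hcon
        rw [(Subgroup.eq_top_iff' M).mpr hcon, Subgroup.index_top] at hM
        omega
      exact ⟨y, by simp [χ, hy]⟩
    · push Not at hinv
      obtain ⟨y, hy⟩ := hinv
      refine ⟨χ * χ.comp (sig ht), fun k => ?_, y, ?_⟩
      · simp only [MonoidHom.mul_apply, MonoidHom.comp_apply, sig_sig]
        exact mul_comm _ _
      · simp only [MonoidHom.mul_apply, MonoidHom.comp_apply]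
        rcases Int.units_eq_one_or (χ y) with h1 | h1 <;> rcases Int.units_eq_one_or (χ (sig ht y)) with h2 | h2 <;>
          simp_all
  -- extension to the pair stabiliser
  set W := pairSub (G := G) a b with hW
  have hWcase : ∀ g : G, g ∈ W → g ∉ (two (G := G) a b) → t * g ∈ (two (G := G) a b) := by
    intro g hg hgK
    rcases mem_pairSub.mp hg with ⟨h1, h2⟩ | ⟨h1, h2⟩
    · exact absurd (mem_two.mpr ⟨h1, h2⟩) hgK
    · exact mem_two.mpr ⟨by rw [mul_smul, h1, tb], by rw [mul_smul, h2, ta]⟩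
  have hnot : ∀ g : G, g ∈ (two (G := G) a b) → t * g ∉ (two (G := G) a b) := fun g hg h => by
    have := (mem_two.mp h).1
    rw [mul_smul, (mem_two.mp hg).1, ta] at this
    exact A.ne this.symm
  let f : W → ℤˣ := fun g => if h : (g : G) ∈ (two (G := G) a b) then φ0 ⟨g, h⟩ else φ0 ⟨t * g, hWcase g g.2 h⟩
  have hfK : ∀ (g : W) (h : (g : G) ∈ (two (G := G) a b)), f g = φ0 ⟨g, h⟩ := fun g h => dif_pos h
  have hfT : ∀ (g : W) (h : (g : G) ∉ (two (G := G) a b)), f g = φ0 ⟨t * g, hWcase g g.2 h⟩ := fun g h => dif_neg h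
  let φ : W →* ℤˣ :=
    { toFun := f
      map_one' := by rw [hfK 1 (one_mem _)]; exact map_one φ0
      map_mul' := fun g g' => by
        by_cases h1 : (g : G) ∈ (two (G := G) a b) <;> by_cases h2 : (g' : G) ∈ (two (G := G) a b)
        · rw [hfK g h1, hfK g' h2, hfK (g * g') ((two (G := G) a b).mul_mem h1 h2), ← map_mul]; rfl
        · have hn : ((g * g' : W) : G) ∉ (two (G := G) a b) := fun h => h2 (by simpa using (two (G := G) a b).mul_mem ((two (G := G) a b).inv_mem h1) h)
          rw [hfK g h1, hfT g' h2, hfT _ hn, ← hφ0 ⟨g, h1⟩, ← map_mul]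
          refine congrArg φ0 (Subtype.ext ?_)
          show t * ((g : G) * g') = t * g * t * (t * g')
          rw [show t * (g : G) * t * (t * g') = t * g * (t * t) * g' by group, ht2]; group
        · have hn : ((g * g' : W) : G) ∉ (two (G := G) a b) := fun h => h1 (by simpa using (two (G := G) a b).mul_mem h ((two (G := G) a b).inv_mem h2))
          rw [hfT g h1, hfK g' h2, hfT _ hn, ← map_mul]
          refine congrArg φ0 (Subtype.ext ?_)
          show t * ((g : G) * g') = t * g * g'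
          group
        · have hgg : ((g * g' : W) : G) = t * (t * g) * t * (t * g') := by
            rw [Subgroup.coe_mul, show t * (t * (g : G)) * t * (t * g') = (t * t) * g * (t * t) * g' by group, ht2]
            group
          have hp : ((g * g' : W) : G) ∈ (two (G := G) a b) := hgg ▸ (two (G := G) a b).mul_mem (ht.conj_mem (hWcase g g.2 h1)) (hWcase g' g'.2 h2)
          rw [hfT g h1, hfT g' h2, hfK _ hp, ← hφ0 ⟨t * g, hWcase g g.2 h1⟩, ← map_mul]
          exact congrArg φ0 (Subtype.ext hgg) }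
  have hKW : (two (G := G) a b) ≤ W := fun g hg => mem_pairSub.mpr (Or.inl (mem_two.mp hg))
  have hφK : ∀ k : (two (G := G) a b), φ ⟨k, hKW k.2⟩ = φ0 k := fun k => hfK _ k.2
  -- the involution is a square
  have hz0 : φ0 z = 1 := by
    obtain ⟨U, hU⟩ := Sylow.exists_subgroup_card_pow_prime 2 (G := (two (G := G) a b)) (n := 2) h4
    obtain ⟨u, hu, hu1⟩ : ∃ u ∈ U, u * u ≠ 1 := by
      by_contra hcon
      push Not at hcon
      have hsub : ∀ u ∈ U, u = 1 ∨ u = z := fun u hu => by
        rcases eq_or_ne u 1 with h | h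
        · exact Or.inl h
        · refine Or.inr (Subtype.ext (A.invol_unique u.2 (congrArg Subtype.val (hcon u hu))
            (fun e => h (Subtype.ext e)) z.2 hz2 hz1))
      haveI : Fintype U := Fintype.ofFinite U
      have hle := Finset.card_le_card (show (Finset.univ : Finset U).image (fun u : U => (u : (two (G := G) a b))) ⊆ {1, z} from
        fun w hw => by
          obtain ⟨w', -, rfl⟩ := Finset.mem_image.mp hw
          simpa using hsub w' w'.2)
      rw [Finset.card_image_of_injective _ Subtype.val_injective, Finset.card_univ, ← Nat.card_eq_fintype_card, hU] at hle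
      have := (Finset.card_insert_le (1 : (two (G := G) a b)) {z}).trans_eq (by rw [Finset.card_singleton])
      omega
    have hu4 : (u * u) * (u * u) = 1 := by
      rw [← pow_two, ← pow_two, ← pow_mul, ← orderOf_dvd_iff_pow_eq_one]
      exact (Subgroup.orderOf_dvd_natCard U hu).trans (by rw [hU]; norm_num)
    have huz : u * u = z := Subtype.ext (A.invol_unique (u * u).2 (congrArg Subtype.val hu4)
      (fun e => hu1 (Subtype.ext e)) z.2 hz2 hz1)
    rw [← huz, map_mul, Int.units_mul_self]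
  -- index of the pair stabiliser is odd
  have hWidx : Odd W.index := by
    have hc : Nat.card W = 2 * Nat.card (two (G := G) a b) := by
      rw [← Subgroup.card_mul_index ((two (G := G) a b).subgroupOf W), Nat.card_congr (Subgroup.subgroupOfEquivOfLe hKW).toEquiv,
        mul_comm]
      congr 1
      refine Subgroup.index_eq_two_iff.mpr ⟨⟨t, mem_pairSub.mpr (Or.inr ⟨ta, tb⟩)⟩, fun g => ?_⟩
      simp only [Subgroup.mem_subgroupOf, Subgroup.coe_mul]
      by_cases hg : (g : G) ∈ (two (G := G) a b)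
      · refine Or.inr ⟨hg, fun h => ?_⟩
        have h' := (mem_two.mp h).1
        rw [mul_smul, ta, (mem_two.mp hg).2] at h'
        exact A.ne h'.symm
      · refine Or.inl ⟨?_, hg⟩
        obtain h1 | h1 := mem_pairSub.mp g.2
        · exact absurd (mem_two.mpr h1) hg
        · exact mem_two.mpr ⟨by rw [mul_smul, ta, h1.2], by rw [mul_smul, tb, h1.1]⟩
    have h := W.card_mul_index
    rw [hc, A.card_group, hh] at h
    obtain ⟨d, hd⟩ := h4
    have h' : W.index * (2 * Nat.card (two (G := G) a b)) = ((2 * d + 1) * (4 * d + 1)) * (2 * Nat.card (two (G := G) a b)) := by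
      rw [hd] at h ⊢; linarith
    rw [Nat.eq_of_mul_eq_mul_right (by omega) h']
    exact Odd.mul ⟨d, rfl⟩ ⟨2 * d, by ring⟩
  -- an element of two-power order outside the kernel
  obtain ⟨v, u, hu, hy⟩ := Nat.exists_eq_pow_mul_and_not_dvd (n := orderOf y0) (orderOf_pos y0).ne' 2 (by norm_num)
  set y := y0 ^ u with hydef
  have hyv : φ0 y = -1 := by
    rw [hydef, map_pow, hy0, Odd.neg_one_pow (Nat.odd_iff.mpr (Nat.two_dvd_ne_zero.mp hu))]
  have hy2 : orderOf y ∣ 2 ^ v := orderOf_dvd_of_pow_eq_one (by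
    rw [hydef, ← pow_mul, mul_comm, ← hy, pow_orderOf_eq_one])
  have hyW : (y : G) ∈ W := hKW y.2
  have key : ∀ (k : ℕ) (g : G) (hk : g⁻¹ * (y : G) ^ k * g ∈ W),
      φ ⟨_, hk⟩ = φ ⟨(y : G) ^ k, pow_mem hyW k⟩ := by
    intro k g hk
    set w := g⁻¹ * (y : G) ^ k * g with hw
    have hykK : (y : G) ^ k ∈ (two (G := G) a b) := pow_mem y.2 k
    rcases eq_or_ne ((y : G) ^ k) 1 with h1 | h1
    · exact congrArg φ (Subtype.ext (by show w = (y : G) ^ k; rw [hw, h1]; group))
    obtain ⟨yka, ykb⟩ := mem_two.mp hykK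
    have hw1 : w ≠ 1 := fun h => h1 (by
      rw [show (y : G) ^ k = g * w * g⁻¹ by rw [hw]; group, h]; group)
    have hfix1 : w • (g⁻¹ • a) = g⁻¹ • a := by rw [hw, mul_smul, smul_inv_smul, mul_smul, yka]
    have hfix2 : w • (g⁻¹ • b) = g⁻¹ • b := by rw [hw, mul_smul, smul_inv_smul, mul_smul, ykb]
    rcases mem_pairSub.mp hk with ⟨wa, wb⟩ | ⟨wa, wb⟩
    · have hgin : g⁻¹ ∈ W := by
        have hcase : ∀ d : Ω, w • d = d → d = a ∨ d = b := fun d hd => by
          by_contra h
          push Not at h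
          exact hw1 (three A.zg A.ne (Ne.symm h.2) (Ne.symm h.1) wa wb hd)
        rcases hcase _ hfix1 with e1 | e1 <;> rcases hcase _ hfix2 with e2 | e2
        · exact absurd ((smul_left_cancel_iff g⁻¹).mp (e1.trans e2.symm)) A.ne
        · exact mem_pairSub.mpr (Or.inl ⟨e1, e2⟩)
        · exact mem_pairSub.mpr (Or.inr ⟨e1, e2⟩)
        · exact absurd ((smul_left_cancel_iff g⁻¹).mp (e1.trans e2.symm)) A.ne
      have hg' : g ∈ W := by simpa using W.inv_mem hgin
      rw [show (⟨w, hk⟩ : W) = (⟨g, hg'⟩ : W)⁻¹ * ⟨(y : G) ^ k, pow_mem hyW k⟩ * ⟨g, hg'⟩ from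
        Subtype.ext hw, map_mul, map_mul, map_inv, mul_comm (φ ⟨g, hg'⟩)⁻¹, mul_assoc, inv_mul_cancel, mul_one]
    · -- an involution with a fixed point
      set d := g⁻¹ • a with hd
      have hda : d ≠ a := fun e => A.ne (by rw [e] at hfix1; exact hfix1.symm.trans wa)
      have hdb : d ≠ b := fun e => A.ne (by rw [e] at hfix1; exact wb.symm.trans hfix1)
      have hw2 : w * w = 1 := three A.zg A.ne hdb.symm hda.symm (by rw [mul_smul, wa, wb])
        (by rw [mul_smul, wb, wa]) (by rw [mul_smul, hfix1, hfix1])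
      have hyz : (⟨(y : G) ^ k, hykK⟩ : (two (G := G) a b)) = z := by
        refine Subtype.ext (A.invol_unique hykK ?_ h1 z.2 hz2 hz1)
        show (y : G) ^ k * (y : G) ^ k = 1
        rw [show (y : G) ^ k = g * w * g⁻¹ by rw [hw]; group,
          show g * w * g⁻¹ * (g * w * g⁻¹) = g * (w * w) * g⁻¹ by group, hw2]
        group
      have hrhs : φ ⟨(y : G) ^ k, pow_mem hyW k⟩ = 1 := (hφK ⟨_, hykK⟩).trans (hyz ▸ hz0)
      obtain ⟨l, la, lb, lc⟩ := hex a b c a b d A.ne hca.symm hcb.symm A.ne hda.symm hdb.symm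
      have hlK : l ∈ (two (G := G) a b) := mem_two.mpr ⟨la, lb⟩
      have hla' : l⁻¹ • a = a := inv_smul_eq_iff.mpr la.symm
      have hlb' : l⁻¹ • b = b := inv_smul_eq_iff.mpr lb.symm
      have hwl : w = l * t * l⁻¹ := by
        refine mul_inv_eq_one.mp (three A.zg A.ne.symm hda.symm hdb.symm ?_ ?_ ?_)
        · simp only [mul_smul, mul_inv_rev, inv_inv, hlb', inv_smul_eq_iff.mpr ta.symm, la, wa]
        · simp only [mul_smul, mul_inv_rev, inv_inv, hla', inv_smul_eq_iff.mpr tb.symm, lb, wb]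
        · simp only [mul_smul, mul_inv_rev, inv_inv, inv_smul_eq_iff.mpr lc.symm, inv_smul_eq_iff.mpr tc.symm, lc, hfix1]
      have htW : t ∈ W := mem_pairSub.mpr (Or.inr ⟨ta, tb⟩)
      have htK : t ∉ (two (G := G) a b) := fun h => hnot t h (ht2 ▸ one_mem _)
      have hφt : φ ⟨t, htW⟩ = 1 := by
        show f ⟨t, htW⟩ = 1
        rw [hfT _ htK, show (⟨t * t, hWcase t htW htK⟩ : (two (G := G) a b)) = 1 from Subtype.ext ht2, map_one]
      rw [hrhs, show (⟨w, hk⟩ : W) = (⟨l, hKW hlK⟩ : W) * ⟨t, htW⟩ * (⟨l, hKW hlK⟩ : W)⁻¹ from Subtype.ext hwl,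
        map_mul, map_mul, map_inv, hφt, mul_one, mul_inv_cancel]
  have hcop : Nat.Coprime 2 W.index := Nat.coprime_two_left.mpr hWidx
  obtain ⟨v', -, hv'⟩ := (Nat.dvd_prime_pow Nat.prime_two).mp hy2
  exact Small.transfer_ne_one φ hcop hyW ⟨v', (Subgroup.orderOf_coe y).trans hv'⟩
    (by rw [hφK y, hyv]; decide) key (sign_hom_trivial hG3 _ _)

theorem psl_of_simple [IsSimpleGroup G] (hev : Even (Nat.card (two (G := G) a b))) :
    ∃ (F : Type) (_ : Field F) (_ : Fintype F), 3 < Fintype.card F ∧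
      Nonempty (G ≃* Matrix.ProjectiveSpecialLinearGroup (Fin 2) F) := by
  classical
  rcases A.dichotomy with h | ⟨heq, s, hs, hcase⟩
  · exact (A.not_sharp hev h).elim
  have hinv : ∀ k ∈ two (G := G) a b, s * k * s = k⁻¹ := hcase.elim (fun ho => A.inv_odd heq ho hs) id
  have habK : ∀ k ∈ two (G := G) a b, ∀ l ∈ two (G := G) a b, k * l = l * k := by
    intro k hk l hl
    refine inv_injective ?_
    rw [← hinv _ (mul_mem hk hl), ← hinv _ (mul_mem hl hk)]
    calc s * (k * l) * s = (s * k * s) * (s * l * s) := by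
          rw [show s * k * s * (s * l * s) = s * k * (s * s) * l * s by group, hs.sq]; group
      _ = (l * k)⁻¹ := by rw [hinv k hk, hinv l hl]; group
      _ = s * (l * k) * s := (hinv _ (mul_mem hl hk)).symm
  obtain ⟨F, _, _, φ, lam, hφ, hadd, hlam, hact⟩ := A.exists_field heq habK
  obtain ⟨h2, hiso⟩ := A.equiv_psl φ lam hφ hadd hlam hact heq hs hinv
  refine ⟨F, inferInstance, inferInstance, ?_, hiso⟩
  by_contra hF
  have hF3 : Fintype.card F ≤ 3 := not_lt.mp hF
  obtain ⟨e⟩ := hiso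
  have he2 := A.two_pos
  have hG : 60 ≤ Nat.card G := by
    rw [A.card_group]
    calc 60 = (5 + 1) * (5 * 2) := by norm_num
      _ ≤ _ := Nat.mul_le_mul (by omega) (Nat.mul_le_mul (by omega) he2)
  rw [Nat.card_congr e.toEquiv] at hG
  set Z := Subgroup.center (Matrix.SpecialLinearGroup (Fin 2) F)
  have hSL : Nat.card (Matrix.SpecialLinearGroup (Fin 2) F) ≤ 81 := by
    refine (Nat.card_le_card_of_injective
      (fun M : Matrix.SpecialLinearGroup (Fin 2) F => (fun q : Fin 2 × Fin 2 => (M : Matrix (Fin 2) (Fin 2) F) q.1 q.2))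
      fun M N h => Subtype.ext (Matrix.ext fun i j => congrFun h (i, j))).trans ?_
    rw [Nat.card_fun, Nat.card_eq_fintype_card, Nat.card_eq_fintype_card, Fintype.card_prod, Fintype.card_fin]
    exact Nat.pow_le_pow_left hF3 4
  have hZ : 2 ≤ Nat.card Z := by
    haveI : Nontrivial Z := by
      refine ⟨⟨⟨-1, ?_⟩, 1, fun e => ?_⟩⟩
      · rw [Subgroup.mem_center_iff]
        intro M; rw [mul_neg, mul_one, neg_mul, one_mul]
      · have h' := congrArg (fun M : Z => ((M : Matrix.SpecialLinearGroup (Fin 2) F) :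
            Matrix (Fin 2) (Fin 2) F) 0 0) e
        simp at h'
        exact Ring.neg_one_ne_one_of_char_ne_two h2 h'
    exact Finite.one_lt_card
  have h := Z.card_mul_index
  rw [Subgroup.index_eq_card] at h
  change Nat.card Z * Nat.card (Matrix.ProjectiveSpecialLinearGroup (Fin 2) F) = _ at h
  nlinarith

end Ab

end Cfsg.Agent.ZassAb
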