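import Cfsg.Agent.Lib.ZassAbelian.Bound
import Cfsg.Agent.Lib.Zassenhaus.Normal
import Cfsg.Agent.Lib.FourOrbits.Invol
import Cfsg.Agent.Lib.Isolated.RankOne
import Mathlib.GroupTheory.Transfer

/-!
# Zassenhaus groups with abelian kernel: the swap inverts an odd two-point stabiliser
-/

set_option autoImplicit false
set_option linter.style.haveILetI false
set_option linter.unusedSectionVars false

namespace Cfsg.Agent.ZassAb

open Cfsg.Agent.Zass MulAction

universe u v

variable {G : Type u} [Group G] [Finite G] {Ω : Type v} [MulAction G Ω] [Fintype Ω]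

namespace Ab

variable {a b : Ω} {H : Subgroup G} (A : Ab a b H)
include A

theorem normal_eq_top (heq : Nat.card H - 1 = 2 * Nat.card (two (G := G) a b)) (M : Subgroup G)
    [M.Normal] (hM : M ≠ ⊥) : M = ⊤ := by
  classical
  obtain ⟨hZ, hK⟩ := Cfsg.Agent.ZassNormal.normal_zassenhaus A.zg M hM
  have hHM : H ≤ M := hK a H A.le fun u hu hu1 c hc => A.fixed hu hu1 hc
  let AM : Ab a b (H.subgroupOf M) :=
    { zg := hZ
      ne := A.ne
      le := fun u hu => A.le hu
      normal := fun g hg u hu => A.normal g hg u hu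
      comm := fun u hu v hv => Subtype.ext (A.comm u hu v hv)
      reg := fun y z hy hz => by
        obtain ⟨w, hw, hu⟩ := A.reg y z hy hz
        exact ⟨⟨⟨w, hHM w.2⟩, w.2⟩, hw, fun w' hw' =>
          Subtype.ext (Subtype.ext (show ((w' : M) : G) = (w : G) from congrArg Subtype.val (hu ⟨((w' : M) : G), w'.2⟩ hw')))⟩ }
  have hcard : Nat.card (H.subgroupOf M) = Nat.card H :=
    Nat.card_congr (Subgroup.subgroupOfEquivOfLe hHM).toEquiv
  have htwo : Nat.card (two (G := M) a b) = Nat.card ((two (G := G) a b ⊓ M : Subgroup G)) :=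
    Nat.card_congr
      { toFun := fun x => ⟨((x : M) : G), mem_two.mpr ((mem_two (G := M)).mp x.2), (x : M).2⟩
        invFun := fun x => ⟨⟨(x : G), x.2.2⟩, (mem_two (G := M)).mpr (mem_two.mp x.2.1)⟩
        left_inv := fun _ => rfl
        right_inv := fun _ => rfl }
  have h2 : 2 * Nat.card (two (G := G) a b) ≤ 2 * Nat.card (two (G := M) a b) := by
    rcases AM.dichotomy with h | ⟨h, -⟩ <;> rw [hcard, heq] at h <;> omega
  have hKM : two (G := G) a b ≤ M := by
    have he : (two (G := G) a b ⊓ M : Subgroup G) = two (G := G) a b :=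
      Subgroup.eq_of_le_of_card_ge inf_le_left (by omega)
    exact he ▸ inf_le_right
  haveI := hZ.1
  refine eq_top_iff.mpr fun g _ => ?_
  -- move `g` into the stabiliser of `a`
  obtain ⟨m, hma⟩ : ∃ m : M, (m : G) • a = g • a := by
    haveI := hZ.2.1
    haveI : IsPretransitive M Ω := isPretransitive_of_is_two_pretransitive
    exact exists_smul_eq M a (g • a)
  have hg' : (m : G)⁻¹ * g ∈ stabilizer G a := by
    rw [mem_stabilizer_iff, mul_smul, ← hma, inv_smul_smul]
  obtain ⟨u, hu, -⟩ := A.reg b (((m : G)⁻¹ * g) • b) A.ne.symm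
    (fun e => A.ne.symm ((smul_left_cancel_iff _).mp (e.trans hg'.symm)))
  have hk : (u : G)⁻¹ * ((m : G)⁻¹ * g) ∈ two (G := G) a b :=
    mem_two.mpr ⟨mem_stabilizer_iff.mp (Subgroup.mul_mem _ (Subgroup.inv_mem _ (A.le u.2)) hg'),
      by rw [mul_smul, ← hu, inv_smul_smul]⟩
  have : g = (m : G) * ((u : G) * ((u : G)⁻¹ * ((m : G)⁻¹ * g))) := by group
  rw [this]
  exact M.mul_mem m.2 (M.mul_mem (hHM u.2) (hKM hk))

theorem isCyclic_sub {r : ℕ} [Fact r.Prime] (hr2 : r ≠ 2) (hrh : ¬ r ∣ Nat.card H) (R : Subgroup G)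
    (hR : IsPGroup r R) (hRK : R ≤ two (G := G) a b) {y : G} (hy : y ∈ R) (hyo : orderOf y = r) :
    IsCyclic R ∧ ∀ x ∈ R, x ^ r = 1 → x ∈ Subgroup.zpowers y := by
  have hr : r.Prime := Fact.out
  have hKa : two (G := G) a b ≤ stabilizer G a := inf_le_left
  -- no two independent commuting elements of order `r`
  have hrank : ∀ x z : G, x ∈ two (G := G) a b → z ∈ two (G := G) a b → x * z = z * x → orderOf z = r →
      x ^ r = 1 → x ∈ Subgroup.zpowers z := by
    intro x z hx hz hxz hzo hxr
    by_contra hnot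
    letI : CommGroup H := { (inferInstance : Group H) with mul_comm := fun u v => Subtype.ext (A.comm u u.2 v v.2) }
    let ρ : two (G := G) a b →* MulAut H :=
      { toFun := fun k =>
          { toFun := fun u => ⟨k * u * (k : G)⁻¹, A.normal k (hKa k.2) u u.2⟩
            invFun := fun u => ⟨(k : G)⁻¹ * u * k, by
              simpa using A.normal (k : G)⁻¹ (Subgroup.inv_mem _ (hKa k.2)) u u.2⟩
            left_inv := fun u => Subtype.ext (by simp [mul_assoc])
            right_inv := fun u => Subtype.ext (by simp [mul_assoc])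
            map_mul' := fun u v => Subtype.ext (by simp [mul_assoc]) }
        map_one' := MulEquiv.ext fun u => Subtype.ext (by simp)
        map_mul' := fun k l => MulEquiv.ext fun u => Subtype.ext (by simp [mul_assoc]) }
    set X : two (G := G) a b := ⟨x, hx⟩
    set Z : two (G := G) a b := ⟨z, hz⟩
    have hXZ : Commute X Z := Subtype.ext hxz
    have hZr : Z ^ r = 1 := Subtype.ext (show z ^ r = 1 by rw [← hzo, pow_orderOf_eq_one])
    have hXr : X ^ r = 1 := Subtype.ext hxr
    obtain ⟨v, hv⟩ : ∃ v : H, v ≠ 1 := by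
      haveI : Nontrivial H := Finite.one_lt_card_iff_nontrivial.mp (by
        have := A.e_dvd
        have := A.two_pos
        by_contra hlt
        have h1 := A.card_H
        have := Nat.card_pos (α := H)
        have hcard : Fintype.card Ω = 2 := by omega
        obtain ⟨g, hg1, p, q, hpq, hgp, hgq⟩ := A.zg.2.2.2.1
        classical
        refine hg1 (A.zg.1.eq_of_smul_eq_smul fun c => ?_)
        have huniv : ({p, q} : Finset Ω) = Finset.univ :=
          Finset.eq_univ_of_card _ (by rw [Finset.card_pair hpq, hcard])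
        have hc : c ∈ ({p, q} : Finset Ω) := huniv ▸ Finset.mem_univ c
        rw [one_smul]
        simp only [Finset.mem_insert, Finset.mem_singleton] at hc
        rcases hc with rfl | rfl <;> assumption)
      exact exists_ne 1
    have h := Cfsg.Agent.FourOrbits.fpf_rank_two r hr (ρ X) (ρ Z) (hXZ.map ρ)
      (by rw [← map_pow, hXr, map_one]) (by rw [← map_pow, hZr, map_one]) ?_ v
    · refine hrh ?_
      have ho : orderOf v = r := orderOf_eq_prime h hv
      exact ho ▸ orderOf_dvd_natCard v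
    intro i j hij u hu
    by_contra hu1
    rw [← map_pow, ← map_pow, ← map_mul] at hu
    have hW : ((X ^ i * Z ^ j : two (G := G) a b) : G) = 1 :=
      A.eq_one_of_comm (X ^ i * Z ^ j).2 u.2 (fun e => hu1 (Subtype.ext e))
        (mul_inv_eq_iff_eq_mul.mp (congrArg Subtype.val hu))
    have hW' : x ^ i * z ^ j = 1 := hW
    refine hij ?_
    have hi : r ∣ i := by
      by_contra hi
      refine hnot ?_
      have hxi : x ^ i ∈ Subgroup.zpowers z := by
        rw [eq_inv_of_mul_eq_one_left hW']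
        exact inv_mem (pow_mem (Subgroup.mem_zpowers z) j)
      obtain ⟨m, hm⟩ := exists_pow_eq_self_of_coprime (x := x) (n := i) (by
        rcases (Nat.dvd_prime hr).mp (orderOf_dvd_of_pow_eq_one hxr) with h1 | h1 <;> rw [h1]
        · exact Nat.coprime_one_right i
        · exact ((Nat.Prime.coprime_iff_not_dvd hr).mpr hi).symm)
      rw [← hm]
      exact pow_mem hxi m
    refine ⟨hi, ?_⟩
    obtain ⟨i', rfl⟩ := hi
    rw [pow_mul, hxr, one_pow, one_mul] at hW'
    exact hzo ▸ orderOf_dvd_of_pow_eq_one hW'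
  haveI : Nontrivial R := ⟨⟨⟨y, hy⟩, 1, fun e => by
    rw [Subtype.ext_iff] at e
    change y = 1 at e
    rw [e, orderOf_one] at hyo
    exact hr.one_lt.ne hyo⟩⟩
  haveI := hR.center_nontrivial
  obtain ⟨z0, hz0⟩ := exists_ne (1 : Subgroup.center R)
  obtain ⟨k, hk⟩ := IsPGroup.iff_orderOf.mp hR (z0 : R)
  rcases k with _ | k
  · exact absurd (Subtype.ext (orderOf_eq_one_iff.mp (by simpa using hk))) hz0
  set z : G := (((z0 : R) ^ r ^ k : R) : G) with hz
  have hzo : orderOf z = r := by
    rw [hz, Subgroup.orderOf_coe, orderOf_pow_of_dvd (pow_ne_zero _ hr.ne_zero)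
      (hk ▸ pow_dvd_pow r (Nat.le_succ k)), hk, pow_succ, Nat.mul_div_cancel_left _ (pow_pos hr.pos k)]
  have hzR : z ∈ R := ((z0 : R) ^ r ^ k).2
  have hzc : ∀ x ∈ R, x * z = z * x := fun x hx =>
    congrArg Subtype.val (Subgroup.mem_center_iff.mp (pow_mem z0.2 (r ^ k) : ((z0 : R) ^ r ^ k) ∈ _) ⟨x, hx⟩)
  have hall : ∀ x ∈ R, x ^ r = 1 → x ∈ Subgroup.zpowers z := fun x hx hxr =>
    hrank x z (hRK hx) (hRK hzR) (hzc x hx) hzo hxr
  have hyz : Subgroup.zpowers y = Subgroup.zpowers z :=
    Subgroup.eq_of_le_of_card_ge (Subgroup.zpowers_le.mpr (hall y hy (hyo ▸ pow_orderOf_eq_one y)))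
      (by rw [Nat.card_zpowers, Nat.card_zpowers, hzo, hyo])
  refine ⟨Cfsg.Agent.IsolatedP.isCyclic_of_odd_unique hR hr2 ⟨z, hzR⟩
    (Subtype.ext (show z ^ r = 1 by rw [← hzo, pow_orderOf_eq_one])) fun x hx => ?_,
    fun x hx hxr => hyz ▸ hall x hx hxr⟩
  obtain ⟨m, hm⟩ := Subgroup.mem_zpowers_iff.mp (hall x x.2 (congrArg Subtype.val hx))
  exact Subgroup.mem_zpowers_iff.mpr ⟨m, Subtype.ext hm⟩

theorem inv_odd (heq : Nat.card H - 1 = 2 * Nat.card (two (G := G) a b))
    (hodd : Odd (Nat.card (two (G := G) a b))) {s : G} (hs : Swap a b s) :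
    ∀ k ∈ two (G := G) a b, s * k * s = k⁻¹ := by
  classical
  set K := two (G := G) a b with hK
  have hsinv : s⁻¹ = s := inv_eq_of_mul_eq_one_right hs.sq
  -- it is enough to exclude fixed points
  suffices hfree : ∀ k : K, sig hs k = k → k = 1 by
    intro k hk
    exact congrArg Subtype.val (congrFun (MonoidHom.FixedPointFree.coe_eq_inv_of_involutive
      (φ := sig hs) (fun k => hfree k) (fun x => sig_sig hs x)) ⟨k, hk⟩)
  by_contra hne
  push Not at hne
  obtain ⟨k₁, hk₁, hk₁1⟩ := hne
  set C : Subgroup K := (sig hs).eqLocus (MonoidHom.id K) with hC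
  have hC1 : Nat.card C ≠ 1 := fun h => hk₁1 (by
    have : (⟨k₁, hk₁⟩ : C) = 1 := (Nat.card_eq_one_iff_unique.mp h).1.elim _ _
    exact congrArg Subtype.val this)
  set r := (Nat.card C).minFac with hr'
  have hr : r.Prime := Nat.minFac_prime hC1
  haveI : Fact r.Prime := ⟨hr⟩
  obtain ⟨y0, hy0⟩ := exists_prime_orderOf_dvd_card' r (Nat.minFac_dvd (Nat.card C))
  have hCe : Nat.card C ∣ Nat.card K := Subgroup.card_subgroup_dvd_card C
  have hre : r ∣ Nat.card K := (Nat.minFac_dvd _).trans hCe
  have hr2 : r ≠ 2 := fun h => by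
    rw [h] at hre
    exact (Nat.not_even_iff_odd.mpr hodd) (even_iff_two_dvd.mpr hre)
  have hh : Nat.card H = 2 * Nat.card K + 1 := by
    have := Nat.card_pos (α := H); omega
  have hrh : ¬ r ∣ Nat.card H := fun h => by
    rw [hh] at h
    exact hr.one_lt.ne' (Nat.dvd_one.mp ((Nat.dvd_add_right (hre.mul_left 2)).mp h))
  set y : K := (y0 : K) with hy
  have hyo : orderOf y = r := by rw [hy, Subgroup.orderOf_coe]; exact hy0
  have hyfix : sig hs y = y := y0.2
  have hyo' : orderOf (y : G) = r := by rw [Subgroup.orderOf_coe]; exact hyo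
  -- a Sylow subgroup of the normalizer of `⟨y⟩`, invariant under the swap
  set N₁ : Subgroup K := Subgroup.normalizer ((Subgroup.zpowers y : Subgroup K) : Set K) with hN₁
  let σ : K ≃* K := MulEquiv.ofBijective (sig hs)
    (Function.Involutive.bijective (fun x => sig_sig hs x))
  have hzfix : ∀ z ∈ Subgroup.zpowers y, sig hs z = z := fun z hz => by
    obtain ⟨m, rfl⟩ := Subgroup.mem_zpowers_iff.mp hz
    rw [map_zpow, hyfix]
  have hN₁σ : ∀ n ∈ N₁, sig hs n ∈ N₁ := by
    intro n hn
    refine Subgroup.mem_normalizer_iff.mpr fun z => ?_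
    have key : ∀ n ∈ N₁, ∀ z ∈ Subgroup.zpowers y, sig hs n * z * (sig hs n)⁻¹ ∈ Subgroup.zpowers y := by
      intro n hn z hz
      have h1 := (Subgroup.mem_normalizer_iff.mp hn z).mp hz
      rw [← hzfix z hz, ← map_inv, ← map_mul, ← map_mul, hzfix _ h1]
      exact h1
    refine ⟨key n hn z, fun h => ?_⟩
    have := key _ (N₁.inv_mem hn) _ h
    simpa [mul_assoc] using this
  let τ : N₁ ≃* N₁ :=
    { toFun := fun n => ⟨sig hs n, hN₁σ n n.2⟩
      invFun := fun n => ⟨sig hs n, hN₁σ n n.2⟩
      left_inv := fun n => Subtype.ext (sig_sig hs n.1)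
      right_inv := fun n => Subtype.ext (sig_sig hs n.1)
      map_mul' := fun m n => Subtype.ext (map_mul (sig hs) m.1 n.1) }
  haveI := Fintype.ofFinite (Sylow r N₁)
  let ψ : Sylow r N₁ → Sylow r N₁ := fun P => P.comapOfInjective τ.toMonoidHom τ.injective
    (by rw [MonoidHom.range_eq_top.mpr τ.surjective]; exact le_top)
  have hψ : Function.Involutive ψ := fun P => Sylow.ext (by
    ext n
    show τ (τ n) ∈ (P : Subgroup N₁) ↔ n ∈ (P : Subgroup N₁)
    rw [show τ (τ n) = n from τ.symm_apply_apply n])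
  obtain ⟨P₁, hP₁⟩ : ∃ P, ψ P = P := by
    by_contra hfp
    push Not at hfp
    have heven : Even (Fintype.card (Sylow r N₁)) := by
      have := Equiv.Perm.two_dvd_card_support (σ := hψ.toPerm) (by
        rw [pow_two]; exact Equiv.ext fun P => hψ P)
      rw [show hψ.toPerm.support = Finset.univ from Finset.eq_univ_of_forall fun P =>
        Equiv.Perm.mem_support.mpr (hfp P), Finset.card_univ] at this
      exact even_iff_two_dvd.mpr this
    have hdvd : Nat.card (Sylow r N₁) ∣ Nat.card K := by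
      obtain ⟨P⟩ : Nonempty (Sylow r N₁) := inferInstance
      exact (P.card_dvd_index).trans ((P : Subgroup N₁).index_dvd_card.trans
        (Subgroup.card_subgroup_dvd_card N₁))
    rw [Nat.card_eq_fintype_card] at hdvd
    exact Nat.not_odd_iff_even.mpr heven (hodd.of_dvd_nat hdvd)
  set R0 : Subgroup K := (P₁ : Subgroup N₁).map N₁.subtype with hR0
  have hR0p : IsPGroup r R0 := P₁.isPGroup'.map _
  have hyN : y ∈ N₁ := Subgroup.le_normalizer (Subgroup.mem_zpowers y)
  have hyR0 : y ∈ R0 := by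
    set Y : Subgroup N₁ := (Subgroup.zpowers y).subgroupOf N₁ with hY
    haveI : Y.Normal := Subgroup.normal_in_normalizer
    have hYp : IsPGroup r Y :=
      (IsPGroup.of_card (n := 1) (by rw [Nat.card_zpowers, hyo, pow_one]) : IsPGroup r (Subgroup.zpowers y)).comap_subtype
    have hle : Y ≤ (P₁ : Subgroup N₁) := by
      rw [← P₁.is_maximal' (hYp.to_sup_of_normal_left P₁.isPGroup') le_sup_right]
      exact le_sup_left
    exact ⟨⟨y, hyN⟩, hle (Subgroup.mem_subgroupOf.mpr (Subgroup.mem_zpowers y)), rfl⟩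
  have hR0σ : ∀ x ∈ R0, sig hs x ∈ R0 := by
    rintro _ ⟨n, hn, rfl⟩
    refine ⟨τ n, ?_, rfl⟩
    rw [← hP₁]
    show τ (τ n) ∈ (P₁ : Subgroup N₁)
    rw [show τ (τ n) = n from τ.symm_apply_apply n]
    exact hn
  obtain ⟨R1, hR1⟩ := hR0p.exists_le_sylow
  have hR0eq : R0 = (R1 : Subgroup K) := by
    have hc := A.isCyclic_sub hr2 hrh ((R1 : Subgroup K).map K.subtype) (R1.isPGroup'.map _)
      (Subgroup.map_subtype_le _) (y := (y : G)) ⟨y, hR1 hyR0, rfl⟩ hyo'
    haveI := hc.1
    have hR1N : (R1 : Subgroup K) ≤ N₁ := by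
      intro x hx
      refine Subgroup.mem_normalizer_iff.mpr fun z => ?_
      have hxy : x * y = y * x := Subtype.ext (show (x : G) * y = (y : G) * x from congrArg
        (fun w : (R1 : Subgroup K).map K.subtype => (w : G))
        (mul_comm' (⟨(x : G), x, hx, rfl⟩ : (R1 : Subgroup K).map K.subtype) ⟨(y : G), y, hR1 hyR0, rfl⟩))
      have hzc : ∀ z ∈ Subgroup.zpowers y, x * z * x⁻¹ = z := fun z hz => by
        obtain ⟨m, rfl⟩ := Subgroup.mem_zpowers_iff.mp hz
        rw [(Commute.zpow_right hxy m).eq, mul_inv_cancel_right]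
      refine ⟨fun hz => by rw [hzc z hz]; exact hz, fun hz => ?_⟩
      have : z = x⁻¹ * (x * z * x⁻¹) * x := by group
      rw [this, show x⁻¹ * (x * z * x⁻¹) * x = x * z * x⁻¹ by
        conv_lhs => rw [← hzc _ hz]
        group]
      exact hz
    refine le_antisymm hR1 ?_
    have hmax := P₁.is_maximal' (R1.isPGroup'.comap_subtype (K := N₁)) (fun n hn =>
      hR1 (Subgroup.mem_map_of_mem _ hn))
    intro x hx
    exact ⟨⟨x, hR1N hx⟩, hmax ▸ (Subgroup.mem_subgroupOf.mpr hx), rfl⟩
  -- a Sylow subgroup of the whole group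
  set R : Subgroup G := R0.map K.subtype with hRdef
  have hRK : R ≤ K := Subgroup.map_subtype_le _
  have hRp : IsPGroup r R := hR0p.map _
  have hyR : (y : G) ∈ R := ⟨y, hyR0, rfl⟩
  have hcyc := A.isCyclic_sub hr2 hrh R hRp hRK hyR hyo'
  haveI := hcyc.1
  have hRcard : Nat.card R = r ^ (Nat.card G).factorization r := by
    rw [hRdef, Subgroup.card_map_of_injective K.subtype_injective, hR0eq, R1.card_eq_multiplicity]
    congr 1
    have hK0 : Nat.card K ≠ 0 := Nat.card_pos.ne'
    have hn1 : ¬ r ∣ Nat.card H + 1 := fun h => by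
      rw [hh, show 2 * Nat.card K + 1 + 1 = 2 * Nat.card K + 2 from rfl] at h
      exact hr2 ((Nat.prime_dvd_prime_iff_eq hr Nat.prime_two).mp
        ((Nat.dvd_add_right (hre.mul_left 2)).mp h))
    rw [A.card_group, Nat.factorization_mul (by omega) (mul_ne_zero Nat.card_pos.ne' hK0),
      Nat.factorization_mul Nat.card_pos.ne' hK0, Finsupp.add_apply, Finsupp.add_apply,
      Nat.factorization_eq_zero_of_not_dvd hn1, Nat.factorization_eq_zero_of_not_dvd hrh, zero_add, zero_add]
  set RS : Sylow r G := Sylow.ofCard R hRcard with hRS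
  have hsR : ∀ z ∈ R, s * z * s = z := by
    rintro _ ⟨z, hz, rfl⟩
    by_contra hne
    set x := z⁻¹ * sig hs z with hx
    have hx1 : x ≠ 1 := fun e => hne (congrArg Subtype.val (inv_mul_eq_one.mp e).symm)
    have hxR : x ∈ R0 := R0.mul_mem (R0.inv_mem hz) (hR0σ z hz)
    have hxinv : sig hs x = x⁻¹ := by rw [hx, map_mul, map_inv, sig_sig, mul_inv_rev, inv_inv]
    obtain ⟨j, hj⟩ := IsPGroup.iff_orderOf.mp hR0p ⟨x, hxR⟩
    rcases j with _ | j
    · exact hx1 (congrArg Subtype.val ((orderOf_eq_one_iff (x := (⟨x, hxR⟩ : R0))).mp (hj.trans (pow_zero r))))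
    rw [← Subgroup.orderOf_coe] at hj
    change orderOf x = r ^ (j + 1) at hj
    set x' := x ^ r ^ j with hx'
    have hx'o : orderOf x' = r := by
      rw [hx', orderOf_pow_of_dvd (pow_ne_zero _ hr.ne_zero) (hj ▸ pow_dvd_pow r (Nat.le_succ j)), hj,
        pow_succ, Nat.mul_div_cancel_left _ (pow_pos hr.pos j)]
    have hx'inv : sig hs x' = x'⁻¹ := by rw [hx', map_pow, hxinv, inv_pow]
    have hmem : (x' : G) ∈ Subgroup.zpowers (y : G) := hcyc.2 _ ⟨x', R0.pow_mem hxR _, rfl⟩
      (by rw [← Subgroup.coe_pow, ← hx'o, pow_orderOf_eq_one]; rfl)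
    obtain ⟨m, hm⟩ := Subgroup.mem_zpowers_iff.mp hmem
    have hfix : sig hs x' = x' := hzfix _ (Subgroup.mem_zpowers_iff.mpr ⟨m, Subtype.ext (by simpa using hm)⟩)
    have h2 : x' ^ 2 = 1 := by rw [pow_two]; exact mul_eq_one_iff_eq_inv.mpr (hfix.symm.trans hx'inv)
    exact hr2 ((Nat.prime_dvd_prime_iff_eq hr Nat.prime_two).mp (hx'o ▸ orderOf_dvd_of_pow_eq_one h2))
  have hNC : Subgroup.normalizer (R : Set G) ≤ Subgroup.centralizer (R : Set G) := by
    intro g hg
    refine Subgroup.mem_centralizer_iff.mpr fun z hz => ?_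
    have hy1 : (y : G) ≠ 1 := fun e => by rw [e, orderOf_one] at hyo'; exact hr.one_lt.ne hyo'
    have hgy : g⁻¹ * y * g ∈ K := hRK (by
      simpa using (Subgroup.mem_normalizer_iff.mp (Subgroup.inv_mem _ hg) (y : G)).mp hyR)
    have hpts : ∀ c, (y : G) • c = c → c = a ∨ c = b := fun c hc => by
      by_contra hcc
      push Not at hcc
      exact hy1 (three A.zg A.ne (Ne.symm hcc.2) (Ne.symm hcc.1) (mem_two.mp y.2).1 (mem_two.mp y.2).2 hc)
    have hga : g • a = a ∨ g • a = b := hpts _ (by
      have := (mem_two.mp hgy).1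
      rw [mul_smul, mul_smul, inv_smul_eq_iff] at this
      exact this)
    have hgb : g • b = a ∨ g • b = b := hpts _ (by
      have := (mem_two.mp hgy).2
      rw [mul_smul, mul_smul, inv_smul_eq_iff] at this
      exact this)
    obtain ⟨k, hkN, hgk⟩ : ∃ k : G, k ∈ K ∧ (g = k ∨ g = s * k) := by
      rcases hga with hga | hga
      · refine ⟨g, mem_two.mpr ⟨hga, hgb.resolve_left fun e => A.ne
          ((smul_left_cancel_iff g).mp (hga.trans e.symm))⟩, Or.inl rfl⟩
      · refine ⟨s * g, mem_two.mpr ⟨by rw [mul_smul, hga, hs.sb], ?_⟩,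
          Or.inr (by rw [← mul_assoc, hs.sq, one_mul])⟩
        rw [mul_smul, hgb.resolve_right fun e => A.ne ((smul_left_cancel_iff g).mp (hga.trans e.symm)),
          hs.sa]
    have hsN : s ∈ Subgroup.normalizer (R : Set G) := Subgroup.mem_normalizer_iff.mpr fun w => by
      refine ⟨fun hw => by rw [hsinv, hsR w hw]; exact hw, fun hw => ?_⟩
      have := hsR _ hw
      rw [hsinv] at hw this
      have e : w = s * w * s := by
        conv_lhs => rw [show w = (s * s) * w * (s * s) by rw [hs.sq, one_mul, mul_one]]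
        rw [← this]; group
      rw [e]; exact hw
    have hkR : k ∈ Subgroup.normalizer (R : Set G) := by
      rcases hgk with rfl | e
      · exact hg
      · have : k = s * g := by rw [e, ← mul_assoc, hs.sq, one_mul]
        rw [this]; exact Subgroup.mul_mem _ hsN hg
    suffices hcomm : k * z = z * k by
      rcases hgk with rfl | rfl
      · exact hcomm.symm
      · calc z * (s * k) = s * (s * z * s) * k := by simp [← mul_assoc, hs.sq]
          _ = s * (z * k) := by rw [hsR z hz]; group
          _ = s * k * z := by rw [← hcomm]; group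
    -- replace `k` by an element fixed by the swap
    set k' : K := ⟨k, hkN⟩ with hk'
    set x : K := k'⁻¹ * sig hs k' with hxd
    have hxinv : sig hs x = x⁻¹ := by rw [hxd, map_mul, map_inv, sig_sig, mul_inv_rev, inv_inv]
    have hxc : ∀ w ∈ R, (x : G) * w = w * x := by
      intro w hw
      have h1 := hsR _ ((Subgroup.mem_normalizer_iff.mp hkR w).mp hw)
      have h2 := hsR w hw
      have h3 : ((sig hs k' : K) : G) * w * ((sig hs k' : K) : G)⁻¹ = k * w * k⁻¹ := by
        show s * k * s * w * (s * k * s)⁻¹ = k * w * k⁻¹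
        conv_lhs => rw [← h2]
        rw [mul_inv_rev, mul_inv_rev, hsinv]
        calc s * k * s * (s * w * s) * (s * (k⁻¹ * s)) = s * k * (s * s) * w * (s * s) * k⁻¹ * s := by group
          _ = s * (k * w * k⁻¹) * s := by rw [hs.sq]; group
          _ = k * w * k⁻¹ := h1
      show k⁻¹ * ((sig hs k' : K) : G) * w = w * (k⁻¹ * ((sig hs k' : K) : G))
      calc k⁻¹ * ((sig hs k' : K) : G) * w
          = k⁻¹ * (((sig hs k' : K) : G) * w * ((sig hs k' : K) : G)⁻¹) * ((sig hs k' : K) : G) := by group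
        _ = w * (k⁻¹ * ((sig hs k' : K) : G)) := by rw [h3]; group
    obtain ⟨i, hi, hii⟩ : ∃ i : K, i * i = x ∧ ∃ n : ℕ, i = x ^ n := by
      have hox : Odd (orderOf x) := hodd.of_dvd_nat (orderOf_dvd_natCard x)
      obtain ⟨m, hm⟩ := hox
      refine ⟨x ^ (m + 1), ?_, _, rfl⟩
      rw [← pow_add, show m + 1 + (m + 1) = orderOf x + 1 by omega, pow_succ, pow_orderOf_eq_one, one_mul]
    obtain ⟨n, hn⟩ := hii
    set c : K := k' * i with hc
    have hσi : sig hs i = i⁻¹ := by rw [hn, map_pow, hxinv, inv_pow]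
    have hcC : c ∈ C := by
      show sig hs c = c
      rw [hc, map_mul, hσi, show sig hs k' = k' * x by rw [hxd, mul_inv_cancel_left], ← hi, mul_assoc,
        mul_inv_cancel_right]
    have hic : ∀ w ∈ R, (i : G) * w = w * i := fun w hw => by
      rw [hn, Subgroup.coe_pow]; exact (Commute.pow_left (hxc w hw) n).eq
    have hiN : (i : G) ∈ Subgroup.normalizer (R : Set G) :=
      Subgroup.centralizer_le_normalizer (R : Set G) (Subgroup.mem_centralizer_iff.mpr fun w hw => (hic w hw).symm)
    have hcN : (c : G) ∈ Subgroup.normalizer (R : Set G) := Subgroup.mul_mem _ hkR hiN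
    set C' : Subgroup.normalizer (R : Set G) := ⟨c, hcN⟩
    set φ := R.normalizerMonoidHom C' with hφ
    have hord : orderOf C' = orderOf (⟨c, hcC⟩ : C) := by
      rw [← Subgroup.orderOf_coe, ← Subgroup.orderOf_coe, ← Subgroup.orderOf_coe]
    set o := orderOf C' with ho
    obtain ⟨α, m, hm, hom⟩ := Nat.exists_eq_pow_mul_and_not_dvd
      (orderOf_pos C').ne' r hr.ne_one
    rw [← ho] at hom
    have h1 : φ ^ m = 1 := by
      have hpg : IsPGroup r (Subgroup.zpowers ((C' ^ m : Subgroup.normalizer (R : Set G)) : G)) := by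
        obtain ⟨β, -, hβ⟩ := (Nat.dvd_prime_pow hr).mp (orderOf_dvd_of_pow_eq_one
          (show ((C' ^ m : Subgroup.normalizer (R : Set G)) : G) ^ r ^ α = 1 by
            rw [← Subgroup.coe_pow, ← pow_mul, mul_comm, ← hom, ho, pow_orderOf_eq_one]; rfl))
        exact IsPGroup.of_card (n := β) (by rw [Nat.card_zpowers]; exact hβ)
      have hin : ((C' ^ m : Subgroup.normalizer (R : Set G)) : G) ∈ R :=
        (hpg.inf_normalizer_sylow RS ▸ ⟨Subgroup.mem_zpowers _, (C' ^ m).2⟩ :
          ((C' ^ m : Subgroup.normalizer (R : Set G)) : G) ∈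
            Subgroup.zpowers ((C' ^ m : Subgroup.normalizer (R : Set G)) : G) ⊓ (RS : Subgroup G)).2
      rw [hφ, ← map_pow, ← MonoidHom.mem_ker, Subgroup.normalizerMonoidHom_ker, Subgroup.mem_subgroupOf,
        Subgroup.mem_centralizer_iff]
      intro w hw
      exact congrArg Subtype.val (mul_comm' (⟨w, hw⟩ : R) ⟨_, hin⟩)
    have hφ1 : φ = 1 := by
      have hd1 : orderOf φ ∣ m := orderOf_dvd_of_pow_eq_one h1
      have hd2 : orderOf φ ∣ Nat.card (MulAut R) := orderOf_dvd_natCard φ
      rw [IsCyclic.card_mulAut, hRcard] at hd2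
      have hm1 : m ∣ Nat.card C := (Dvd.intro_left _ hom.symm).trans (hord ▸ orderOf_dvd_natCard _)
      have hco : ∀ j, m.Coprime (Nat.totient (r ^ j)) := by
        intro j
        rcases Nat.eq_zero_or_pos j with rfl | hj
        · simp
        rw [Nat.totient_prime_pow hr hj]
        refine Nat.Coprime.mul_right ((hr.coprime_iff_not_dvd.mpr hm).symm.pow_right _) ?_
        refine Nat.coprime_of_dvd' fun t ht htm htr => ?_
        have h3 := Nat.minFac_le_of_dvd ht.two_le (htm.trans hm1)
        have h4 := Nat.le_of_dvd (by have := hr.two_le; omega) htr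
        exfalso; rw [← hr'] at h3; have := hr.two_le; omega
      exact orderOf_eq_one_iff.mp (Nat.eq_one_of_dvd_coprimes (hco _) hd1 hd2)
    have hcz : (c : G) * z = z * c := by
      have := hφ ▸ hφ1
      rw [← MonoidHom.mem_ker, Subgroup.normalizerMonoidHom_ker, Subgroup.mem_subgroupOf,
        Subgroup.mem_centralizer_iff] at this
      exact (this z hz).symm
    have hk_eq : k = (c : G) * ((i : K) : G)⁻¹ := by
      show k = k * (i : G) * ((i : K) : G)⁻¹
      group
    rw [hk_eq]
    exact ((show Commute (c : G) z from hcz).mul_left (show Commute ((i : G)) z from hic z hz).inv_left).eq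
  -- transfer
  have hker : (MonoidHom.transferSylow RS hNC).ker ≠ ⊤ := fun e => by
    have h := MonoidHom.not_dvd_card_ker_transferSylow RS hNC
    rw [e, Subgroup.card_top] at h
    exact h (hre.trans (Subgroup.card_subgroup_dvd_card K))
  refine hker (A.normal_eq_top heq _ fun e => ?_)
  have hHle : H ≤ (MonoidHom.transferSylow RS hNC).ker := by
    intro u hu
    rw [MonoidHom.mem_ker, ← orderOf_eq_one_iff]
    refine Nat.eq_one_of_dvd_coprimes ?_ ((orderOf_map_dvd _ u).trans (Subgroup.orderOf_dvd_natCard _ hu))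
      (orderOf_dvd_natCard _)
    rw [show Nat.card (RS : Subgroup G) = r ^ (Nat.card G).factorization r from hRcard]
    exact ((hr.coprime_iff_not_dvd.mpr hrh).symm.pow_right _)
  rw [e, le_bot_iff] at hHle
  rw [hHle, Subgroup.card_bot] at hh
  have := Nat.card_pos (α := K)
  omega

end Ab

end Cfsg.Agent.ZassAb
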